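import Groth.Agent.FModLib.LocPres
import Groth.Agent.ModSiteLib.FreeGen

/-!
# Modules with local presentations by sections are of finite presentation
-/

set_option autoImplicit false
set_option linter.style.haveILetI false
set_option maxHeartbeats 800000

universe u

open CategoryTheory CategoryTheory.Limits TopologicalSpace Opposite
open _root_.ModSiteLib (Sec ap)

noncomputable section

namespace FModLib

variable {X : TopCat.{u}} {O : Sheaf (Opens.grothendieckTopology X) CommRingCat.{u}} {U : Opens X}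
  {ι κ : Type u} [Fintype ι] [Fintype κ]

theorem comb_coord (Z : Over U) (y : (SheafOfModules.free (R := ModSite.ringSh (O.over U)) ι).val.obj (op Z)) :
    comb (ι := ι) Z (fun i => (coord (O := O) (U := U) i).val.app (op Z) y) = y := by
  refine Eq.trans ?_ (congr($(congrArg (fun g : SheafOfModules.free (R := ModSite.ringSh (O.over U)) ι ⟶ _ =>
    g.val.app (op Z)) (sum_coord (O := O) (U := U) (ι := ι))) y))
  exact (app_sum (fun i : ι => coord (O := O) (U := U) i ≫
    SheafOfModules.ιFree (R := ModSite.ringSh (O.over U)) i) Z y).symm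

open Groth.Agent.ModSiteLib in
theorem loc_of_points (Z : Over U) {P : ∀ ⦃Z' : Over U⦄, (Z' ⟶ Z) → Prop}
    (hmono : ∀ ⦃Z' Z'' : Over U⦄ (g : Z' ⟶ Z) (k : Z'' ⟶ Z'), P g → P (k ≫ g))
    (h : ∀ p ∈ Z.left, ∃ (Z' : Over U) (g : Z' ⟶ Z), P g ∧ p ∈ Z'.left) :
    SetPull.Loc ((Opens.grothendieckTopology X).over U) Z P := by
  refine ⟨⟨fun Z' => {g : Z' ⟶ Z | P g}, fun {_ _} g hg k => hmono g k hg⟩, ?_, fun _ _ hg => hg⟩
  rw [GrothendieckTopology.mem_over_iff]
  intro p hp
  obtain ⟨Z', g, hg, hpZ⟩ := h p hp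
  refine ⟨Z'.left, g.left, ?_, hpZ⟩
  exact (Sieve.overEquiv_iff _ _).2 (by
    refine (show P (Over.homMk g.left rfl) from ?_)
    have e : (Over.homMk g.left rfl : Over.mk (g.left ≫ Z.hom) ⟶ Z) =
        (Over.homMk (𝟙 Z'.left) (Subsingleton.elim _ _) : Over.mk (g.left ≫ Z.hom) ⟶ Z') ≫ g :=
      Over.OverMorphism.ext (Subsingleton.elim _ _)
    rw [e]
    exact hmono g _ hg)

variable (M : ModSite.Mod O) (e : ι → MSec M U)

/-- The top of the localised site is terminal. -/
def isTerminalTop (U : Opens X) : IsTerminal (oTop U) := Over.mkIdTerminal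

/-- The map out of a free module given by sections. -/
def πOf : SheafOfModules.free (R := ModSite.ringSh (O.over U)) ι ⟶ (ModSite.restr O U).obj M :=
  _root_.ModSiteLib.freeLift (isTerminalTop U) (M := (ModSite.restr O U).obj M) e

theorem ev_ιFree_freeLift {N : ModSite.Mod (O.over U)} {J : Type u} (v : J → Sec N (oTop U)) (j : J) :
    ev (SheafOfModules.ιFree j ≫ _root_.ModSiteLib.freeLift (isTerminalTop U) v) = v j := by
  refine Eq.trans ?_ (_root_.ModSiteLib.ap_freeLift (isTerminalTop U) v j)
  exact (_root_.ModSiteLib.ap_freeSec (_root_.ModSiteLib.freeLift (isTerminalTop U) v) j).symm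

theorem ev_πOf (i : ι) : ev (SheafOfModules.ιFree i ≫ πOf M e) = e i := ev_ιFree_freeLift _ i

theorem app_πOf (Z : Over U) (c : ι → (O.over U).obj.obj (op Z)) :
    (πOf M e).val.app (op Z) (comb Z c) = lc M Z.hom.le e c := by
  refine (app_π M (πOf M e) Z (comb Z c)).trans ?_
  rw [show genSec M (πOf M e) = e from funext fun i => ev_πOf M e i,
    show (fun i => (coord (O := O) (U := U) i).val.app (op Z) (comb Z c)) = c from funext fun i => coord_comb Z c i]

variable (r : κ → ι → RSec O U)

/-- The map of free modules given by relations. -/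
def ψOf : SheafOfModules.free (R := ModSite.ringSh (O.over U)) κ ⟶ SheafOfModules.free (R := ModSite.ringSh (O.over U)) ι :=
  _root_.ModSiteLib.freeLift (isTerminalTop U) (M := SheafOfModules.free (R := ModSite.ringSh (O.over U)) ι)
    fun j => comb (oTop U) (r j)

variable {M e r}

theorem ψOf_πOf (hP : LocPres M U e r) : ψOf r ≫ πOf M e = 0 := by
  refine _root_.ModSiteLib.free_hom_ext (isTerminalTop U) fun j => ?_
  refine Eq.trans ?_ (hP.rel j)
  refine Eq.trans ?_ (app_πOf M e (oTop U) (r j))
  exact congrArg ((πOf M e).val.app (op (oTop U))) (_root_.ModSiteLib.ap_freeLift (isTerminalTop U) _ j)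

theorem coord_ψOf (Z : Over U) (d : κ → RSec O Z.left) (i : ι) :
    (coord (O := O) (U := U) i).val.app (op Z) ((ψOf r).val.app (op Z) (comb Z d)) =
      ∑ j, d j * rres O Z.hom.le (r j i) := by
  refine (app_decomp (ψOf r ≫ coord (O := O) (U := U) i) Z (comb Z d)).trans (Finset.sum_congr rfl fun j _ => ?_)
  have h1 : ev (SheafOfModules.ιFree j ≫ ψOf r ≫ coord (O := O) (U := U) i) = r j i := by
    refine Eq.trans ?_ (coord_comb (oTop U) (r j) i)
    exact congrArg ((coord (O := O) (U := U) i).val.app (op (oTop U))) (ev_ιFree_freeLift _ j)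
  rw [coord_comb, h1]
  rfl

theorem epi_πOf (hP : LocPres M U e r) : Epi (πOf M e) := by
  refine _root_.ModSiteLib.epi_of_loc_surjective _ fun Z t => loc_of_points Z ?_ fun p hp => ?_
  · rintro Z' Z'' g k ⟨y, hy⟩
    refine ⟨(SheafOfModules.free (R := ModSite.ringSh (O.over U)) ι).val.map k.op y, ?_⟩
    refine (PresheafOfModules.naturality_apply (πOf M e).val k.op y).trans ?_
    refine (congrArg (((ModSite.restr O U).obj M).val.map k.op) hy).trans ?_
    exact (((ModSite.restr O U).obj M).val.presheaf.map_comp_apply g.op k.op t).symm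
  · obtain ⟨W, hW, c, hpW, hc⟩ := hP.gen Z.left Z.hom.le t p hp
    refine ⟨oMk (hW.trans Z.hom.le), Over.homMk (homOfLE hW) (Subsingleton.elim _ _), ⟨comb (oMk (hW.trans Z.hom.le)) c, ?_⟩, hpW⟩
    exact (app_πOf M e (oMk (hW.trans Z.hom.le)) c).trans hc.symm

theorem epi_lift (hP : LocPres M U e r) : Epi (kernel.lift (πOf M e) (ψOf r) (ψOf_πOf hP)) := by
  refine _root_.ModSiteLib.epi_of_loc_surjective _ fun Z t => loc_of_points Z ?_ fun p hp => ?_
  · rintro Z' Z'' g k ⟨y, hy⟩
    refine ⟨(SheafOfModules.free (R := ModSite.ringSh (O.over U)) κ).val.map k.op y, ?_⟩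
    refine (PresheafOfModules.naturality_apply (kernel.lift (πOf M e) (ψOf r) (ψOf_πOf hP)).val k.op y).trans ?_
    refine (congrArg ((kernel (πOf M e)).val.map k.op) hy).trans ?_
    exact ((kernel (πOf M e)).val.presheaf.map_comp_apply g.op k.op t).symm
  · let q : (SheafOfModules.free (R := ModSite.ringSh (O.over U)) ι).val.obj (op Z) :=
      (kernel.ι (πOf M e)).val.app (op Z) t
    let c : ι → (O.over U).obj.obj (op Z) := fun i => (coord (O := O) (U := U) i).val.app (op Z) q
    have hq : (πOf M e).val.app (op Z) q = 0 :=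
      congr($(congrArg (fun g : kernel (πOf M e) ⟶ _ => g.val.app (op Z)) (kernel.condition (πOf M e))) t)
    have h0 : lc M Z.hom.le e c = 0 :=
      (app_πOf M e Z c).symm.trans ((congrArg ((πOf M e).val.app (op Z)) (comb_coord Z q)).trans hq)
    obtain ⟨W, hW, d, hpW, hd⟩ := hP.ex Z.left Z.hom.le c h0 p hp
    let g : oMk (hW.trans Z.hom.le) ⟶ Z := Over.homMk (homOfLE hW) (Subsingleton.elim _ _)
    refine ⟨oMk (hW.trans Z.hom.le), g, ⟨comb _ d, ?_⟩, hpW⟩
    refine _root_.ModSiteLib.injective_ap_of_mono (kernel.ι (πOf M e)) _ ?_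
    refine (congr($(congrArg (fun f : SheafOfModules.free (R := ModSite.ringSh (O.over U)) κ ⟶ _ =>
      f.val.app (op (oMk (hW.trans Z.hom.le)))) (kernel.lift_ι (πOf M e) (ψOf r) (ψOf_πOf hP))) (comb _ d))).trans ?_
    refine Eq.trans ?_ (PresheafOfModules.naturality_apply (kernel.ι (πOf M e)).val g.op t).symm
    refine (comb_coord _ _).symm.trans (Eq.trans ?_ (comb_coord _ _))
    refine congrArg (comb _) (funext fun i => ?_)
    refine (coord_ψOf (r := r) (oMk (hW.trans Z.hom.le)) d i).trans ((hd i).symm.trans ?_)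
    exact (PresheafOfModules.naturality_apply (coord (O := O) (U := U) i).val g.op q).symm

theorem exists_presentation (hP : LocPres M U e r) :
    ∃ P : ((ModSite.restr O U).obj M).Presentation, P.IsFinite := by
  have := epi_πOf hP
  have hep := epi_lift hP
  let G : ((ModSite.restr O U).obj M).GeneratingSections :=
    { I := ι
      s := ((ModSite.restr O U).obj M).freeHomEquiv (πOf M e)
      epi := by rw [Equiv.symm_apply_apply]; infer_instance }
  have hG : G.π = πOf M e := Equiv.symm_apply_apply _ _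
  have key : ∀ (φ : SheafOfModules.free (R := ModSite.ringSh (O.over U)) ι ⟶ (ModSite.restr O U).obj M)
      (hφ : φ = πOf M e), ∃ R : (kernel φ).GeneratingSections, R.IsFiniteType := by
    rintro φ rfl
    refine ⟨{ I := κ, s := (kernel (πOf M e)).freeHomEquiv (kernel.lift (πOf M e) (ψOf r) (ψOf_πOf hP))
              epi := by rw [Equiv.symm_apply_apply]; exact hep }, ⟨(inferInstance : Finite κ)⟩⟩
  obtain ⟨R, hR⟩ := key G.π hG
  exact ⟨⟨G, R⟩, { isFiniteType_generators := ⟨(inferInstance : Finite ι)⟩, isFiniteType_relations := hR }⟩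

/-- **A module with local presentations by sections is of finite presentation.** -/
theorem isFP_of_locPres (h : ∀ p : X, ∃ (U : Opens X) (ι κ : Type u) (_ : Fintype ι) (_ : Fintype κ)
    (e : ι → MSec M U) (r : κ → ι → RSec O U), p ∈ U ∧ LocPres M U e r) :
    SheafOfModules.IsFinitePresentation (R := ModSite.ringSh O) M := by
  choose U ι κ hι hκ e r hp hP using h
  choose P hPf using fun p => @exists_presentation _ _ _ _ _ (hι p) (hκ p) _ _ _ (hP p)
  refine SheafOfModules.IsFinitePresentation.mk (R := ModSite.ringSh O)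
    ⟨({ I := X
        X := U
        coversTop := (Opens.coversTop_iff (X : Type u) _).mpr
          (eq_top_iff.mpr fun x _ => Opens.mem_iSup.mpr ⟨x, hp x⟩)
        presentation := P } : SheafOfModules.QuasicoherentData.{u} (R := ModSite.ringSh O) M), ?_⟩
  exact SheafOfModules.QuasicoherentData.IsFinitePresentation.mk (R := ModSite.ringSh O) hPf

end FModLib

end
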