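import Groth.Agent.FModLib.LocPres

/-!
# Presentations by sections pull back along maps of ringed spaces
-/

set_option autoImplicit false
set_option linter.style.haveILetI false

universe u

open CategoryTheory CategoryTheory.Limits TopologicalSpace Opposite

noncomputable section

namespace FModLib

/-- The characterisation of the inverse comparison of two composite left adjoints. -/
theorem inv_comparison {A B C D : Type*} [Category* A] [Category* B] [Category* C] [Category* D]
    {L : A ⥤ B} {R : B ⥤ A} {P : B ⥤ D} {S : D ⥤ B} {P' : A ⥤ C} {S' : C ⥤ A} {L' : C ⥤ D} {R' : D ⥤ C}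
    (a : L ⊣ R) (b : P ⊣ S) (d : P' ⊣ S') (c : L' ⊣ R') (e : S ⋙ R ≅ R' ⋙ S') (x : A) :
    c.homEquiv _ _ ((((a.comp b).ofNatIsoRight e).leftAdjointUniq (d.comp c)).inv.app x) =
      P'.map (a.unit.app x) ≫
        (d.homEquiv _ _).symm (R.map (b.unit.app (L.obj x)) ≫ e.hom.app (P.obj (L.obj x))) := by
  have h0 : ((a.comp b).ofNatIsoRight e).unit.app x =
      (a.comp b).unit.app x ≫ e.hom.app ((L ⋙ P).obj x) := by
    simp [Adjunction.ofNatIsoRight]
  have h1 := (d.comp c).homEquiv_leftAdjointUniq_hom_app ((a.comp b).ofNatIsoRight e) x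
  rw [← d.homEquiv_naturality_left_symm, Equiv.eq_symm_apply, Adjunction.leftAdjointUniq_inv_app]
  refine Eq.trans ?_ (Eq.trans h1 ?_)
  · simp [Adjunction.comp, Adjunction.homEquiv_unit]
  · rw [h0]
    simp [Adjunction.comp]

variable {X Y : TopCat.{u}} (g : X ⟶ Y) {OX : Sheaf (Opens.grothendieckTopology X) CommRingCat.{u}}
  {OY : Sheaf (Opens.grothendieckTopology Y) CommRingCat.{u}}
  (s : OY ⟶ ((Opens.map g).sheafPushforwardContinuous CommRingCat.{u} _ _).obj OX)

/-- The image of a section. -/
def unitSec (M : ModSite.Mod OY) (V : Opens Y) (x : MSec M V) :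
    MSec ((rMor g s).pull.obj M) ((Opens.map g).obj V) :=
  ((rMor g s).adj.unit.app M).val.app (op V) x

/-- The image of a scalar. -/
def sharpSec (V : Opens Y) (c : RSec OY V) : RSec OX ((Opens.map g).obj V) := s.hom.app (op V) c

variable (U : Opens Y)

set_option maxHeartbeats 1600000 in
theorem sigma_eq (N : ModSite.Mod OX) :
    ((SheafOfModules.overPushforwardOverAdj (R := ModSite.ringSh OY) U).homEquiv _ _).symm
        ((rMor g s).push.map ((SheafOfModules.overPushforwardOverAdj (R := ModSite.ringSh OX)
            ((Opens.map g).obj U)).unit.app N) ≫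
          (pushExtIso g s U).hom.app ((ModSite.restr OX ((Opens.map g).obj U)).obj N)) =
      𝟙 ((ModSite.restr OY U).obj ((rMor g s).push.obj N)) := by
  rw [Equiv.symm_apply_eq]
  refine Eq.trans ?_ (Adjunction.homEquiv_id (SheafOfModules.overPushforwardOverAdj (R := ModSite.ringSh OY) U)
    ((rMor g s).push.obj N)).symm
  ext Z x
  change N.val.map ((starIso g U).hom.app Z.unop).left.op
      (N.val.map ((Over.forgetAdjStar ((Opens.map g).obj U)).counit.app ((Opens.map g).obj Z.unop)).op x) =
    N.val.map ((Opens.map g).map ((Over.forgetAdjStar U).counit.app Z.unop)).op x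
  refine (N.val.map_comp_apply _ _ x).symm.trans ?_
  congr

/-- The inverse comparison is adjunct to the restricted unit. -/
theorem homEquiv_pullRestrIso_inv (M : ModSite.Mod OY) :
    (SheafOfModules.pullbackPushforwardAdjunction.{u} (sharpV g s U)).homEquiv _ _
        ((pullRestrIso g s U).inv.app M) = (ModSite.restr OY U).map ((rMor g s).adj.unit.app M) := by
  refine (inv_comparison (rMor g s).adj
    (SheafOfModules.overPushforwardOverAdj (R := ModSite.ringSh OX) ((Opens.map g).obj U))
    (SheafOfModules.overPushforwardOverAdj (R := ModSite.ringSh OY) U)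
    (SheafOfModules.pullbackPushforwardAdjunction.{u} (sharpV g s U)) (pushExtIso g s U) M).trans ?_
  exact (congrArg (fun q => (ModSite.restr OY U).map ((rMor g s).adj.unit.app M) ≫ q)
    (sigma_eq g s U ((rMor g s).pull.obj M))).trans (Category.comp_id _)

variable {ι κ : Type u} [Fintype ι] [Fintype κ]

/-- The pulled back free module. -/
abbrev fiso (ι : Type u) : (SheafOfModules.pullback.{u} (sharpV g s U)).obj (SheafOfModules.free ι) ≅
    SheafOfModules.free ι :=
  SheafOfModules.pullbackObjFreeIso.{u} (sharpV g s U) ι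

theorem homEquiv_ev {N : ModSite.Mod (OY.over U)} {N' : ModSite.Mod (OX.over ((Opens.map g).obj U))}
    (m : ModSite.unit (OY.over U) ⟶ N) (m' : ModSite.unit (OX.over ((Opens.map g).obj U)) ⟶ N')
    (θ : (SheafOfModules.pullback.{u} (sharpV g s U)).obj N ⟶ N')
    (h : SheafOfModules.pullbackObjUnitToUnit.{u} (sharpV g s U) ≫ m' =
      (SheafOfModules.pullback.{u} (sharpV g s U)).map m ≫ θ) :
    ((SheafOfModules.pullbackPushforwardAdjunction.{u} (sharpV g s U)).homEquiv _ _ θ).val.app
        (op (oTop U)) (ev m) = ev m' := by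
  have h' := congrArg ((SheafOfModules.pullbackPushforwardAdjunction.{u} (sharpV g s U)).homEquiv _ _) h
  rw [Adjunction.homEquiv_naturality_left, Adjunction.homEquiv_naturality_right,
    SheafOfModules.pullbackPushforwardAdjunction_homEquiv_pullbackObjUnitToUnit] at h'
  refine Eq.trans ?_ ((congr($(congrArg (fun f : ModSite.unit (OY.over U) ⟶ _ => f.val.app (op (oTop U))) h')
    (1 : (OY.over U).obj.obj (op (oTop U))))).symm.trans ?_)
  · rfl
  · exact congrArg (m'.val.app (op (oTop ((Opens.map g).obj U)))) ((rMor g s).sharpR.hom.app (op U)).hom.map_one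

/-- **Inverse images of presentations by sections.** -/
theorem locPres_pull (M : ModSite.Mod OY)
    (π : SheafOfModules.free (R := ModSite.ringSh (OY.over U)) ι ⟶ (ModSite.restr OY U).obj M)
    (ψ : SheafOfModules.free (R := ModSite.ringSh (OY.over U)) κ ⟶ SheafOfModules.free (R := ModSite.ringSh (OY.over U)) ι)
    [Epi π] (w : ψ ≫ π = 0) (hex : Epi (kernel.lift π ψ w)) :
    LocPres ((rMor g s).pull.obj M) ((Opens.map g).obj U) (fun i => unitSec g s M U (genSec M π i))
      (fun j i => sharpSec g s U (relSec ψ j i)) := by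
  classical
  let P := SheafOfModules.pullback.{u} (sharpV g s U)
  let θ := (pullRestrIso g s U).inv.app M
  let π' := (fiso g s U ι).inv ≫ P.map π ≫ θ
  let ψ' := (fiso g s U κ).inv ≫ P.map ψ ≫ (fiso g s U ι).hom
  let hadj := SheafOfModules.pullbackPushforwardAdjunction.{u} (sharpV g s U)
  have hθ : IsIso θ := inferInstanceAs (IsIso ((pullRestrIso g s U).inv.app M))
  have : (SheafOfModules.pushforward.{u} (sharpV g s U)).Additive := ⟨fun {_ _ _ _} => rfl⟩
  have : P.IsLeftAdjoint := hadj.isLeftAdjoint
  have : P.Additive := Adjunction.left_adjoint_additive hadj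
  have hS : (ShortComplex.mk ψ π w).Exact := (ShortComplex.exact_iff_epi_kernel_lift _).2 hex
  have : PreservesColimitsOfSize.{0, 0} P := hadj.leftAdjoint_preservesColimits
  obtain ⟨hSe, hSg⟩ := Groth.Agent.ModSiteLib.Snake.exact_epi_map P hS ‹Epi π›
  have hπ'epi : Epi π' := by
    have : Epi (P.map π) := hSg
    exact epi_comp _ _
  have w' : ψ' ≫ π' = 0 := by
    simp only [π', ψ', Category.assoc, Iso.hom_inv_id_assoc]
    rw [← Functor.map_comp_assoc, w, Functor.map_zero, zero_comp, comp_zero]
  have hex' : Epi (kernel.lift π' ψ' w') := by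
    refine (ShortComplex.exact_iff_epi_kernel_lift (ShortComplex.mk ψ' π' w')).1 ?_
    refine ShortComplex.exact_of_iso (ShortComplex.isoMk (fiso g s U κ) (fiso g s U ι) (@asIso _ _ _ _ θ hθ) ?_ ?_) hSe
    · exact Iso.hom_inv_id_assoc _ _
    · exact Iso.hom_inv_id_assoc _ _
  have key := locPres_of_exact ((rMor g s).pull.obj M) π' ψ' w' hex'
  have he : genSec ((rMor g s).pull.obj M) π' = fun i => unitSec g s M U (genSec M π i) := funext fun i => by
    refine ((homEquiv_ev g s U (SheafOfModules.ιFree i ≫ π) (SheafOfModules.ιFree i ≫ π') θ ?_).symm).trans ?_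
    · simp only [π', P, Functor.map_comp, Category.assoc]
      rw [← SheafOfModules.pullback_map_ιFree_comp_pullbackObjFreeIso_hom_assoc]
      exact congrArg (fun q => (SheafOfModules.pullback.{u} (sharpV g s U)).map (SheafOfModules.ιFree i) ≫ q)
        (Iso.hom_inv_id_assoc _ _)
    · exact congr($(congrArg (fun f : (ModSite.restr OY U).obj M ⟶ _ => f.val.app (op (oTop U)))
        (homEquiv_pullRestrIso_inv g s U M)) _)
  have hc : ∀ i : ι, (fiso g s U ι).hom ≫ coord (O := OX) (U := (Opens.map g).obj U) i =
      P.map (coord (O := OY) (U := U) i) ≫ SheafOfModules.pullbackObjUnitToUnit.{u} (sharpV g s U) := fun i => by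
    refine Cofan.IsColimit.hom_ext (isColimitCofanMkObjOfIsColimit P _ _ (SheafOfModules.isColimitFreeCofan ι)) _ _
      fun k => ?_
    show P.map (SheafOfModules.ιFree k) ≫ _ = P.map (SheafOfModules.ιFree k) ≫ _
    rw [SheafOfModules.pullback_map_ιFree_comp_pullbackObjFreeIso_hom_assoc, ιFree_coord, ← Functor.map_comp_assoc,
      ιFree_coord]
    split_ifs with hk
    · simp
    · simp
  have hr : relSec ψ' = fun j i => sharpSec g s U (relSec ψ j i) := funext fun j => funext fun i => by
    refine ((homEquiv_ev g s U (SheafOfModules.ιFree j ≫ ψ ≫ coord (O := OY) (U := U) i)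
      (SheafOfModules.ιFree j ≫ ψ' ≫ coord i) (SheafOfModules.pullbackObjUnitToUnit.{u} (sharpV g s U)) ?_).symm).trans ?_
    · simp only [ψ', P, Functor.map_comp, Category.assoc]
      rw [← SheafOfModules.pullback_map_ιFree_comp_pullbackObjFreeIso_hom_assoc]
      refine congrArg (fun q => (SheafOfModules.pullback.{u} (sharpV g s U)).map (SheafOfModules.ιFree j) ≫ q)
        ((Iso.hom_inv_id_assoc _ _).trans ?_)
      exact congrArg (fun q => (SheafOfModules.pullback.{u} (sharpV g s U)).map ψ ≫ q) (hc i)
    · rw [SheafOfModules.pullbackPushforwardAdjunction_homEquiv_pullbackObjUnitToUnit]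
      rfl
  rwa [he, hr] at key

end FModLib

end
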