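import Groth.Agent.QCohLib.AffineFinite

/-!
# On an affine open, membership in a span of sections is local
-/

set_option autoImplicit false

universe u

open CategoryTheory CategoryTheory.Limits TopologicalSpace Opposite AlgebraicGeometry

namespace FModLib

open QCohLib in
/-- A tuple of sections which is locally a combination of given tuples is one globally. -/
theorem exists_comb_of_local {X : Scheme.{u}} (M : X.Modules) [Coh.IsQCoh M] {U : X.Opens}
    (hU : IsAffineOpen U) {ι κ : Type u} [Fintype ι] [Fintype κ] (e : κ → ι → Γ(M, U))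
    (x : ι → Γ(M, U))
    (hloc : ∀ p ∈ U, ∃ (W : X.Opens) (hW : W ≤ U) (c : κ → Γ(X, W)), p ∈ W ∧
      ∀ i, M.presheaf.map (homOfLE hW).op (x i) = ∑ j, c j • M.presheaf.map (homOfLE hW).op (e j i)) :
    ∃ c : κ → Γ(X, U), ∀ i, x i = ∑ j, c j • e j i := by
  classical
  let J : Ideal Γ(X, U) := (Submodule.span Γ(X, U) (Set.range e)).colon {x}
  suffices hJ : J = ⊤ by
    have h1 := Submodule.mem_colon_singleton.mp ((Ideal.eq_top_iff_one J).mp hJ)
    rw [one_smul] at h1
    obtain ⟨c, hc⟩ := (Submodule.mem_span_range_iff_exists_fun Γ(X, U)).mp h1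
    refine ⟨c, fun i => ?_⟩
    rw [← hc, Finset.sum_apply]
    rfl
  have key : ∀ q ∈ U, ∃ a ∈ J, q ∈ X.basicOpen a := by
    intro q hq
    obtain ⟨W, hW, c, hqW, hc⟩ := hloc q hq
    obtain ⟨g, hgW, hqg⟩ := exists_basicOpen_nhd hU hqW hq
    have hext : ∀ j, ∃ (e' : ℕ) (b : Γ(X, U)),
        X.presheaf.map (homOfLE (X.basicOpen_le g)).op b =
          (X.presheaf.map (homOfLE (X.basicOpen_le g)).op g) ^ e' *
            X.presheaf.map (homOfLE hgW).op (c j) := fun j =>
      (@localizingAt_of_isQCoh _ _ hU (Coh.structureModule X) isQCoh_unit g).exists_extend _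
    choose e' b hb using hext
    let E := Finset.univ.sup e'
    have heq : ∀ i, M.presheaf.map (homOfLE (X.basicOpen_le g)).op
        (g ^ E • x i - ∑ j, (g ^ (E - e' j) * b j) • e j i) = 0 := fun i => by
      have hc' := congr_arg (M.presheaf.map (homOfLE hgW).op) (hc i)
      rw [map_map', map_sum] at hc'
      rw [map_sub, sub_eq_zero, map_smul', map_sum]
      refine (congr_arg _ hc').trans ?_
      rw [Finset.smul_sum]
      refine Finset.sum_congr rfl fun j _ => ?_
      rw [map_smul', map_smul', map_map', map_mul, map_pow, map_pow, hb, ← mul_smul, ← mul_assoc,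
        ← pow_add, Nat.sub_add_cancel (Finset.le_sup (Finset.mem_univ j))]
      rfl
    choose k hk using fun i => (localizingAt_of_isQCoh hU M g).eq_zero _ (heq i)
    let K := Finset.univ.sup k
    refine ⟨g ^ (K + E + 1), Submodule.mem_colon_singleton.mpr ?_, ?_⟩
    · refine (Submodule.mem_span_range_iff_exists_fun Γ(X, U)).mpr
        ⟨fun j => g ^ (K + 1) * (g ^ (E - e' j) * b j), funext fun i => ?_⟩
      have h3 := hk i
      simp only [homOfLE_refl, op_id, CategoryTheory.Functor.map_id] at h3
      change g ^ k i • (g ^ E • x i - ∑ j, (g ^ (E - e' j) * b j) • e j i) = 0 at h3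
      rw [smul_sub, sub_eq_zero] at h3
      have h4 := congrArg (fun z => g ^ (K + 1 - k i) • z) h3
      have hle : k i ≤ K + 1 := (Finset.le_sup (Finset.mem_univ i)).trans (Nat.le_succ _)
      simp only [← mul_smul, ← pow_add, Finset.smul_sum, ← mul_assoc] at h4
      simp only [← add_assoc, Nat.sub_add_cancel hle] at h4
      rw [show K + 1 + E = K + E + 1 by omega] at h4
      rw [Finset.sum_apply]
      simp only [Pi.smul_apply, ← mul_assoc, ← pow_add]
      exact h4.symm
    · rwa [X.basicOpen_pow g (Nat.succ_pos _)]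
  by_contra hJ
  obtain ⟨P, hP, hJP⟩ := J.exists_le_maximal hJ
  have := hP.isPrime
  let q : X := hU.fromSpec ⟨P, this⟩
  have hq : q ∈ U := hU.range_fromSpec.le ⟨_, rfl⟩
  obtain ⟨a, ha, hqa⟩ := key q hq
  have : (⟨P, this⟩ : PrimeSpectrum Γ(X, U)) ∈ hU.fromSpec ⁻¹ᵁ X.basicOpen a := hqa
  rw [hU.fromSpec_preimage_basicOpen] at this
  exact this (hJP ha)

end FModLib
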