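import Groth.Agent.FModLib.PullFP
import Groth.Agent.GrSysLib.ThickSys
import Groth.Agent.FComplLib.Levels
import Groth.Prelude.Def_FSch5

/-!
# The levels of a coherent module on a formal scheme, as an adic system
-/

set_option autoImplicit false

universe u

open CategoryTheory CategoryTheory.Limits AlgebraicGeometry TopologicalSpace Opposite FSch

noncomputable section

namespace FModLib

/-- The unit characterisation of the comparison of composed left adjoints. -/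
theorem unit_comp_eq {A B C : Type*} [Category* A] [Category* B] [Category* C] {L1 : A ⥤ B} {R1 : B ⥤ A}
    {L2 : B ⥤ C} {R2 : C ⥤ B} {L3 : A ⥤ C} {R3 : C ⥤ A} (a1 : L1 ⊣ R1) (a2 : L2 ⊣ R2) (a3 : L3 ⊣ R3)
    (e : R2 ⋙ R1 ≅ R3) (x : A) :
    a2.unit.app (L1.obj x) ≫ R2.map ((((a1.comp a2).ofNatIsoRight e).leftAdjointUniq a3).hom.app x) =
      (a1.homEquiv _ _).symm (a3.unit.app x ≫ e.inv.app (L3.obj x)) := by
  have h1 := ((a1.comp a2).ofNatIsoRight e).unit_leftAdjointUniq_hom_app a3 x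
  have h0 : ((a1.comp a2).ofNatIsoRight e).unit.app x =
      (a1.comp a2).unit.app x ≫ e.hom.app ((L1 ⋙ L2).obj x) := by
    simp [Adjunction.ofNatIsoRight]
  rw [Equiv.eq_symm_apply, a1.homEquiv_unit, ← h1, h0]
  simp only [Category.assoc]
  rw [← e.hom.naturality_assoc, Iso.hom_inv_id_app]
  simp

variable {𝔛 : Sys.{u}} (h : 𝔛.IsFormal) (𝔉 : ModF 𝔛 h)

/-- The `k`-th level `u_k^* 𝔉`. -/
abbrev lev (k : ℕ) : (𝔛.X k).Modules := (levelMor 𝔛 h k).pull.obj 𝔉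

theorem isFP_lev [h𝔉 : SheafOfModules.IsFinitePresentation (R := ModSite.ringSh (𝔛.Osh h)) 𝔉] (k : ℕ) :
    SheafOfModules.IsFinitePresentation (R := (𝔛.X k).ringCatSheaf) (lev h 𝔉 k) :=
  isFP_pull (𝔛.gInv h k) (𝔛.OshProj h k) 𝔉

theorem isCoh_lev (h𝔉 : IsCohF 𝔛 h 𝔉) (k : ℕ) : Coh.IsCoh (lev h 𝔉 k) := by
  haveI : SheafOfModules.IsFinitePresentation (R := ModSite.ringSh (𝔛.Osh h)) 𝔉 := h𝔉
  haveI := isFP_lev h 𝔉 k
  exact ⟨inferInstance, inferInstance⟩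

/-- The adjunct transition map `F_{k+1} ⟶ ι_* F_k`. -/
def tMap (k : ℕ) : lev h 𝔉 (k + 1) ⟶ (Scheme.Modules.pushforward (𝔛.ι k)).obj (lev h 𝔉 k) :=
  ((levelMor 𝔛 h (k + 1)).adj.homEquiv _ _).symm
    ((levelMor 𝔛 h k).adj.unit.app 𝔉 ≫ (pushCompareInv 𝔛 h k).app (lev h 𝔉 k))

theorem levelTrans_eq (k : ℕ) : levelTrans 𝔛 h 𝔉 k =
    (levelMor 𝔛 h (k + 1)).push.map (tMap h 𝔉 k) ≫ (pushCompare 𝔛 h k).app (lev h 𝔉 k) := rfl

/-- `pushCompare` as an isomorphism. -/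
def pushIso (k : ℕ) :
    Scheme.Modules.pushforward (𝔛.ι k) ⋙ (levelMor 𝔛 h (k + 1)).push ≅ (levelMor 𝔛 h k).push where
  hom := pushCompare 𝔛 h k
  inv := pushCompareInv 𝔛 h k
  hom_inv_id := NatTrans.ext (funext fun G => pushCompare_pushCompareInv 𝔛 h k G)
  inv_hom_id := NatTrans.ext (funext fun G => pushCompareInv_pushCompare 𝔛 h k G)

/-- The composed adjunction. -/
def compAdj (k : ℕ) :
    (levelMor 𝔛 h (k + 1)).pull ⋙ Scheme.Modules.pullback (𝔛.ι k) ⊣ (levelMor 𝔛 h k).push :=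
  ((levelMor 𝔛 h (k + 1)).adj.comp (Scheme.Modules.pullbackPushforwardAdjunction (𝔛.ι k))).ofNatIsoRight
    (pushIso h k)

/-- The transition isomorphism of the levels. -/
def psi (k : ℕ) : (Scheme.Modules.pullback (𝔛.ι k)).obj (lev h 𝔉 (k + 1)) ≅ lev h 𝔉 k :=
  ((compAdj h k).leftAdjointUniq (levelMor 𝔛 h k).adj).app 𝔉

theorem unit_psi (k : ℕ) :
    (Scheme.Modules.pullbackPushforwardAdjunction (𝔛.ι k)).unit.app (lev h 𝔉 (k + 1)) ≫
      (Scheme.Modules.pushforward (𝔛.ι k)).map (psi h 𝔉 k).hom = tMap h 𝔉 k :=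
  unit_comp_eq (levelMor 𝔛 h (k + 1)).adj (Scheme.Modules.pullbackPushforwardAdjunction (𝔛.ι k))
    (levelMor 𝔛 h k).adj (pushIso h k) 𝔉

variable {A : Type u} [CommRing A] (J : Ideal A) (f : 𝔛 ⟶ spf A J) (hf : IsProperHom f)

/-- The adic system of a proper morphism to `Spf A`. -/
def thick : GrSysLib.Thick A J where
  X := 𝔛.X
  p := fun k => (f : Hom _ _).app k
  i := 𝔛.ι
  cart := hf.1
  proper := hf.2

theorem toLvl_thick : ∀ k, GrSysLib.toLvl (thick J f hf) k = 𝔛.toX k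
  | 0 => rfl
  | k + 1 => congrArg (· ≫ 𝔛.ι k) (toLvl_thick k)

theorem res'_eq (k : ℕ) : GrSysLib.res' (thick J f hf) (lev h 𝔉) (psi h 𝔉) k = tMap h 𝔉 k := unit_psi h 𝔉 k

end FModLib

end
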