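import Groth.Agent.FModLib.MilnorSeq
import Groth.Agent.CechLib.Cartan

/-!
# Cohomology of the limit of a Mittag-Leffler tower
-/

set_option autoImplicit false

universe u v

open CategoryTheory CategoryTheory.Limits TopologicalSpace Opposite CategoryTheory.Abelian

noncomputable section

namespace FModLib

section Algebra

variable {M : ℕ → Type v} [∀ k, AddCommGroup (M k)] (t : ∀ k, M (k + 1) →+ M k)

/-- Composite of a tower. -/
def comp (k : ℕ) : ∀ L, M (k + L) →+ M k
  | 0 => AddMonoidHom.id _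
  | L + 1 => (comp k L).comp (t (k + L))

/-- The tower, cast to arbitrary indices. -/
def cast' {i j : ℕ} (h : i = j) : M i →+ M j := by
  subst h
  exact AddMonoidHom.id _

theorem cast'_self {i : ℕ} (h : i = i) (x : M i) : cast' h x = x := rfl

theorem t_cast' {i j : ℕ} (h : i = j) (x : M (i + 1)) :
    cast' h (t i x) = t j (cast' (congrArg (· + 1) h) x) := by
  subst h
  rfl

theorem comp_succ' (k : ℕ) : ∀ (L : ℕ) (x : M (k + 1 + L)),
    t k (comp t (k + 1) L x) = comp t k (L + 1) (cast' (Nat.add_right_comm k 1 L) x) := by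
  intro L
  induction L with
  | zero => intro x; rfl
  | succ L ih =>
    intro x
    refine (ih (t (k + 1 + L) x)).trans ?_
    exact congrArg (comp t k (L + 1)) (t_cast' t _ x)

theorem comp_cast {k L L' : ℕ} (h : L = L') (x : M (k + L)) :
    comp t k L' (cast' (congrArg (k + ·) h) x) = comp t k L x := by
  subst h
  rfl

/-- Stable images. -/
def Stable : Prop := ∀ k, ∃ e, ∀ L, e ≤ L → ∀ y, ∃ y', comp t k (L + 1) y' = comp t k L y

/-- Membership in all images. -/
def InAll (k : ℕ) (x : M k) : Prop := ∀ L, ∃ y, comp t k L y = x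

variable {t}

theorem inAll_sub {k : ℕ} {x y : M k} (hx : InAll t k x) (hy : InAll t k y) : InAll t k (x - y) := fun L => by
  obtain ⟨a, ha⟩ := hx L
  obtain ⟨b, hb⟩ := hy L
  exact ⟨a - b, by rw [map_sub, ha, hb]⟩

theorem inAll_zero (k : ℕ) : InAll t k 0 := fun _ => ⟨0, map_zero _⟩

theorem exists_inAll (ht : Stable t) (k : ℕ) : ∃ e, ∀ L, e ≤ L → ∀ y, InAll t k (comp t k L y) := by
  obtain ⟨e, he⟩ := ht k
  refine ⟨e, fun L hL y L' => ?_⟩
  have up : ∀ d, ∀ y, ∃ y', comp t k (L + d) y' = comp t k L y := by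
    intro d
    induction d with
    | zero => exact fun y => ⟨y, rfl⟩
    | succ d ih =>
      intro y
      obtain ⟨y₁, h₁⟩ := ih y
      obtain ⟨y₂, h₂⟩ := he (L + d) (hL.trans (Nat.le_add_right L d)) y₁
      exact ⟨y₂, h₂.trans h₁⟩
  obtain ⟨z, hz⟩ := up L' y
  have down : ∀ a b, ∀ w : M (k + (a + b)), ∃ w' : M (k + a), comp t k a w' = comp t k (a + b) w := by
    intro a b
    induction b with
    | zero => exact fun w => ⟨w, rfl⟩
    | succ b ih => exact fun w => ih (t (k + (a + b)) w)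
  obtain ⟨w, hw⟩ := down L' L (cast' (congrArg (k + ·) (Nat.add_comm L L')) z)
  exact ⟨w, hw.trans ((comp_cast t (Nat.add_comm L L') z).trans hz)⟩

theorem exists_inAll_lift (ht : Stable t) (k : ℕ) {x : M k} (hx : InAll t k x) :
    ∃ y, InAll t (k + 1) y ∧ t k y = x := by
  obtain ⟨e, he⟩ := exists_inAll ht (k + 1)
  obtain ⟨z, hz⟩ := hx (e + 1)
  refine ⟨comp t (k + 1) e (cast' (Nat.add_right_comm k 1 e).symm z), he e le_rfl _, ?_⟩
  rw [comp_succ']
  refine Eq.trans ?_ hz
  congr 1
  have : ∀ {i j : ℕ} (h : i = j) (w : M j), cast' h (cast' h.symm w) = w := by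
    intro i j h w
    subst h
    rfl
  exact this _ z

/-- **`lim¹` vanishes on Mittag-Leffler towers.** -/
theorem exists_sub_eq (ht : Stable t) (y : ∀ k, M k) : ∃ z : ∀ k, M k, ∀ k, z k - t k (z (k + 1)) = y k := by
  classical
  choose e he using fun k => exists_inAll ht k
  let m : ℕ → ℕ := fun k => (Finset.range (k + 1)).sup (fun i => i + e i)
  have hm : ∀ k, k + e k ≤ m k := fun k =>
    Finset.le_sup (f := fun i => i + e i) (Finset.mem_range.2 (Nat.lt_succ_self k))
  have hmono : ∀ k, m k ≤ m (k + 1) := fun k => Finset.sup_mono (Finset.range_mono (Nat.le_succ _))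
  let w : ∀ k, M k := fun k => ∑ L ∈ Finset.range (m k - k), comp t k L (y (k + L))
  let v : ∀ k, M k := fun k => y k - (w k - t k (w (k + 1)))
  have hshift : ∀ k L, t k (comp t (k + 1) L (y (k + 1 + L))) = comp t k (L + 1) (y (k + (L + 1))) := fun k L => by
    rw [comp_succ']
    congr 1
    have : ∀ {i j : ℕ} (h : i = j), cast' h (y i) = y j := by
      intro i j h
      subst h
      rfl
    exact this _
  have hv : ∀ k, InAll t k (v k) := fun k => by
    have hw1 : t k (w (k + 1)) = ∑ L ∈ Finset.range (m (k + 1) - (k + 1)), comp t k (L + 1) (y (k + (L + 1))) := by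
      rw [map_sum]
      exact Finset.sum_congr rfl fun L _ => hshift k L
    have hy : y k + t k (w (k + 1)) = ∑ L ∈ Finset.range (m (k + 1) - (k + 1) + 1), comp t k L (y (k + L)) := by
      rw [Finset.sum_range_succ' _ (m (k + 1) - (k + 1)), hw1, add_comm]
      rfl
    have : v k = ∑ L ∈ Finset.Ico (m k - k) (m (k + 1) - (k + 1) + 1), comp t k L (y (k + L)) := by
      rw [Finset.sum_Ico_eq_sub _ (by have := hmono k; have := hm (k + 1); omega), ← hy]
      show y k - (w k - t k (w (k + 1))) = y k + t k (w (k + 1)) - w k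
      abel
    rw [this]
    refine Finset.sum_induction _ (InAll t k) (fun a b ha hb => ?_) (inAll_zero k) fun L hL => ?_
    · have := inAll_sub ha (inAll_sub (inAll_zero k) hb)
      rwa [zero_sub, sub_neg_eq_add] at this
    · refine he k L ?_ _
      have := (Finset.mem_Ico.1 hL).1
      have := hm k
      omega
  choose lift hlift hlift' using fun k (x : {x : M k // InAll t k x}) => exists_inAll_lift ht k x.2
  let U : ∀ k, {x : M k // InAll t k x} := fun k =>
    Nat.rec ⟨0, inAll_zero 0⟩ (fun k x => ⟨lift k ⟨x.1 - v k, inAll_sub x.2 (hv k)⟩, hlift k _⟩) k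
  refine ⟨fun k => w k + (U k).1, fun k => ?_⟩
  have h1 : t k (U (k + 1)).1 = (U k).1 - v k := hlift' k ⟨(U k).1 - v k, inAll_sub (U k).2 (hv k)⟩
  show w k + (U k).1 - t k (w (k + 1) + (U (k + 1)).1) = y k
  rw [map_add, h1]
  show _ + _ - (_ + (_ - (y k - (w k - t k (w (k + 1)))))) = y k
  abel

end Algebra

open QCohLib (AbSh HU)

variable {X : TopCat.{u}} (B : Set (Opens X)) (G : ℕ → AbSh X) (t : ∀ k, G (k + 1) ⟶ G k)
  {L : AbSh X} (π : ∀ k, L ⟶ G k) (hπ : ∀ k, π (k + 1) ≫ t k = π k)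

/-- One minus shift. -/
abbrev shift1 : ∏ᶜ G ⟶ ∏ᶜ G := Pi.lift fun k => Pi.π G k - Pi.π G (k + 1) ≫ t k

theorem shift1_π (k : ℕ) : shift1 G t ≫ Pi.π G k = Pi.π G k - Pi.π G (k + 1) ≫ t k := Pi.lift_π _ _

theorem shift1_app (V : Opens X) (s : (∏ᶜ G).obj.obj (op V)) (k : ℕ) :
    (Pi.π G k).hom.app (op V) ((shift1 G t).hom.app (op V) s) =
      (Pi.π G k).hom.app (op V) s - (t k).hom.app (op V) ((Pi.π G (k + 1)).hom.app (op V) s) :=
  congr($(shift1_π G t k).hom.app (op V) s)

/-- The sequence `0 → lim → ∏ → ∏ → 0`. -/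
abbrev limSeq : ShortComplex (AbSh X) :=
  ShortComplex.mk (Pi.lift π) (shift1 G t) (Pi.hom_ext _ _ fun k => by
    rw [Category.assoc, shift1_π, Preadditive.comp_sub, Pi.lift_π, ← Category.assoc, Pi.lift_π, hπ, sub_self,
      zero_comp])

/-- A tower on a basis, with its limit. -/
structure BTower : Prop where
  basis : Opens.IsBasis B
  inj : ∀ V ∈ B, ∀ s : L.obj.obj (op V), (∀ k, (π k).hom.app (op V) s = 0) → s = 0
  lift : ∀ V ∈ B, ∀ s : ∀ k, (G k).obj.obj (op V), (∀ k, (t k).hom.app (op V) (s (k + 1)) = s k) →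
    ∃ l : L.obj.obj (op V), ∀ k, (π k).hom.app (op V) l = s k
  surj : ∀ V ∈ B, ∀ k, Function.Surjective ((t k).hom.app (op V))
  acyclic : ∀ k, AcB B (G k)

variable {B G t π}

theorem limSeq_shortExact (h : BTower B G t π) : (limSeq G t π hπ).ShortExact := by
  have hmono : Mono (limSeq G t π hπ).f := by
    suffices Sheaf.IsLocallyInjective (limSeq G t π hπ).f from Sheaf.mono_of_isLocallyInjective _
    refine ⟨fun {U} x y hxy p hp => ?_⟩
    obtain ⟨W, hWB, hpW, hWU⟩ := Opens.isBasis_iff_nbhd.mp h.basis hp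
    refine ⟨W, homOfLE hWU, sub_eq_zero.1 ?_, hpW⟩
    refine h.inj W hWB _ fun k => ?_
    rw [map_sub, sub_eq_zero]
    refine (congr($((π k).hom.naturality (homOfLE hWU).op) x)).trans (Eq.trans ?_
      (congr($((π k).hom.naturality (homOfLE hWU).op) y)).symm)
    refine congrArg ((G k).obj.map (homOfLE hWU).op) ?_
    refine (congr($(Pi.lift_π π k).hom.app (U) x)).symm.trans (Eq.trans ?_ (congr($(Pi.lift_π π k).hom.app (U) y)))
    exact congrArg ((Pi.π G k).hom.app U) hxy
  refine { exact := ?_, mono_f := hmono, epi_g := ?_ }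
  · let φ : L ⟶ kernel (shift1 G t) := kernel.lift _ (Pi.lift π) (limSeq G t π hπ).zero
    have hφ : φ ≫ kernel.ι (shift1 G t) = Pi.lift π := kernel.lift_ι _ _ _
    have : Epi φ := by
      refine (Sheaf.isLocallySurjective_iff_epi' (φ := φ)).mp
        ((TopCat.Presheaf.isLocallySurjective_iff _).mpr ?_)
      intro U s p hp
      obtain ⟨W, hWB, hpW, hWU⟩ := Opens.isBasis_iff_nbhd.mp h.basis hp
      let s' := (kernel (shift1 G t)).obj.map (homOfLE hWU).op s
      have hs : (shift1 G t).hom.app (op W) ((kernel.ι (shift1 G t)).hom.app (op W) s') = 0 := by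
        refine (congr($(kernel.condition (shift1 G t)).hom.app (op W) s')).trans ?_
        rfl
      obtain ⟨l, hl⟩ := h.lift W hWB
        (fun k => (Pi.π G k).hom.app (op W) ((kernel.ι (shift1 G t)).hom.app (op W) s')) fun k => by
          have := shift1_app G t W ((kernel.ι (shift1 G t)).hom.app (op W) s') k
          rw [hs, map_zero] at this
          exact (sub_eq_zero.1 this.symm).symm
      refine ⟨W, hWU, ⟨l, CechLib.app_injective (kernel.ι (shift1 G t)) W ?_⟩, hpW⟩
      refine pi_section_ext G W fun k => ?_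
      refine Eq.trans ?_ (hl k)
      refine congrArg ((Pi.π G k).hom.app (op W)) ?_ |>.trans (congr($(Pi.lift_π π k).hom.app (op W) l))
      exact congr($(hφ).hom.app (op W) l)
    exact (ShortComplex.exact_iff_epi_kernel_lift _).2 this
  · refine (Sheaf.isLocallySurjective_iff_epi' (φ := shift1 G t)).mp
      ((TopCat.Presheaf.isLocallySurjective_iff _).mpr ?_)
    intro U s p hp
    obtain ⟨W, hWB, hpW, hWU⟩ := Opens.isBasis_iff_nbhd.mp h.basis hp
    let y := fun k => (Pi.π G k).hom.app (op W) ((∏ᶜ G).obj.map (homOfLE hWU).op s)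
    choose pre hpre using fun k => h.surj W hWB k
    let z : ∀ k, (G k).obj.obj (op W) := fun k => Nat.rec 0 (fun k zk => pre k (zk - y k)) k
    have hz : ∀ k, (t k).hom.app (op W) (z (k + 1)) = z k - y k := fun k => hpre k (z k - y k)
    obtain ⟨x, hx⟩ := exists_pi_section G W z
    refine ⟨W, hWU, ⟨x, pi_section_ext G W fun k => ?_⟩, hpW⟩
    refine (shift1_app G t W x k).trans ?_
    rw [hx, hx, hz, sub_sub_cancel]
    rfl

/-- Composition with the projections, on classes. -/
abbrev tE (T : AbSh X) (n : ℕ) (k : ℕ) : Ext T (G (k + 1)) n →+ Ext T (G k) n :=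
  (Ext.mk₀ (t k)).postcomp T (add_zero n)

theorem toPi_shift1 (T : AbSh X) (n : ℕ) (x : Ext T (∏ᶜ G) n) (k : ℕ) :
    toPi G T n (x.comp (Ext.mk₀ (shift1 G t)) (add_zero n)) k =
      toPi G T n x k - tE (G := G) (t := t) T n k (toPi G T n x (k + 1)) := by
  rw [toPi_apply, toPi_apply]
  show _ = _ - (x.comp (Ext.mk₀ (Pi.π G (k + 1))) (add_zero n)).comp (Ext.mk₀ (t k)) (add_zero n)
  rw [Ext.comp_assoc_of_third_deg_zero, Ext.comp_assoc_of_third_deg_zero, Ext.mk₀_comp_mk₀, Ext.mk₀_comp_mk₀,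
    shift1_π, sub_eq_add_neg, Ext.mk₀_add, Ext.comp_add,
    show Ext.mk₀ (-(Pi.π G (k + 1) ≫ t k)) = -Ext.mk₀ (Pi.π G (k + 1) ≫ t k) from
      map_neg Ext.addEquiv₀.symm _, Ext.comp_neg, ← sub_eq_add_neg]

/-- **Cohomology of the limit is the limit of cohomology.** -/
theorem ext_lim_bijective (hπ : ∀ k, π (k + 1) ≫ t k = π k) (h : BTower B G t π) (T : AbSh X)
    (hst : ∀ n, Stable (M := fun k => Ext T (G k) n) (tE (G := G) (t := t) T n)) (n : ℕ) :
    (∀ x : Ext T L n, (∀ k, x.comp (Ext.mk₀ (π k)) (add_zero n) = 0) → x = 0) ∧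
    (∀ y : ∀ k, Ext T (G k) n, (∀ k, tE (G := G) (t := t) T n k (y (k + 1)) = y k) →
      ∃ x : Ext T L n, ∀ k, x.comp (Ext.mk₀ (π k)) (add_zero n) = y k) := by
  have hS := limSeq_shortExact hπ h
  have hB : ∀ m, Function.Bijective (toPi G T m) := fun m => toPi_bijective B h.basis T m G h.acyclic
  have hcomp : ∀ (m : ℕ) (x : Ext T L m) k, toPi G T m (x.comp (Ext.mk₀ (Pi.lift π)) (add_zero m)) k =
      x.comp (Ext.mk₀ (π k)) (add_zero m) := fun m x k => by
    rw [toPi_apply, Ext.comp_assoc_of_third_deg_zero, Ext.mk₀_comp_mk₀, Pi.lift_π]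
  constructor
  · intro x hx
    have h0 : x.comp (Ext.mk₀ (Pi.lift π)) (add_zero n) = 0 :=
      (hB n).1 ((funext fun k => (hcomp n x k).trans (hx k)).trans (map_zero _).symm)
    match n with
    | 0 =>
      have := hS.mono_f
      exact Ext.postcomp_mk₀_injective_of_mono T (limSeq G t π hπ).f (h0.trans (map_zero _).symm)
    | m + 1 =>
      obtain ⟨y, rfl⟩ := Ext.covariant_sequence_exact₁ _ hS x h0 rfl
      obtain ⟨z, hz⟩ := exists_sub_eq (hst m) (toPi G T m y)
      obtain ⟨w, hw⟩ := (hB m).2 z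
      have : w.comp (Ext.mk₀ (limSeq G t π hπ).g) (add_zero m) = y := (hB m).1 <| funext fun k => by
        refine (toPi_shift1 T m w k).trans ?_
        rw [hw]
        exact hz k
      rw [← this, Ext.comp_assoc_of_second_deg_zero, hS.comp_extClass, Ext.comp_zero]
  · intro y hy
    obtain ⟨w, hw⟩ := (hB n).2 y
    have : w.comp (Ext.mk₀ (limSeq G t π hπ).g) (add_zero n) = 0 :=
      (hB n).1 (Eq.trans (funext fun k => by rw [toPi_shift1, hw, hy, sub_self]; rfl) (map_zero _).symm)
    obtain ⟨x, hx⟩ := Ext.covariant_sequence_exact₂ _ hS w this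
    exact ⟨x, fun k => by rw [← hcomp, hx, hw]⟩

end FModLib

end
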