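import Groth.Agent.FModLib.AffLevels
import Groth.Agent.FModLib.AffSpan
import Groth.Agent.FModLib.LocPresPull
import Groth.Agent.FModLib.MilnorLim
import Groth.Agent.FModLib.Levels
import Groth.Agent.QCohLib.Push

/-!
# Sections of a locally presented module are the limit of the sections of its levels
-/

set_option autoImplicit false
set_option linter.style.haveILetI false
set_option maxHeartbeats 800000

universe u

open CategoryTheory CategoryTheory.Limits AlgebraicGeometry TopologicalSpace Opposite FSch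

noncomputable section

namespace FModLib

variable {X : TopCat.{u}} {O : Sheaf (Opens.grothendieckTopology X) CommRingCat.{u}}

theorem mres_mres (M : ModSite.Mod O) {W V U : Opens X} (h : W ≤ V) (h' : V ≤ U) (s : MSec M U) :
    mres M h (mres M h' s) = mres M (h.trans h') s :=
  (M.val.presheaf.map_comp_apply (homOfLE h').op (homOfLE h).op s).symm

theorem rres_rres {W V U : Opens X} (h : W ≤ V) (h' : V ≤ U) (s : RSec O U) :
    rres O h (rres O h' s) = rres O (h.trans h') s :=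
  (O.obj.map_comp_apply (homOfLE h').op (homOfLE h).op s).symm

theorem mres_lc {ι : Type u} [Fintype ι] (M : ModSite.Mod O) {U V W : Opens X} (h' : W ≤ V) (h : V ≤ U)
    (e : ι → MSec M U) (c : ι → RSec O V) :
    mres M h' (lc M h e c) = lc M (h'.trans h) e fun i => rres O h' (c i) := by
  refine (map_sum (M.val.map (homOfLE h').op).hom _ _).trans (Finset.sum_congr rfl fun i _ => ?_)
  exact (PresheafOfModules.map_smul M.val (homOfLE h').op (c i) (mres M h (e i))).trans
    (congrArg (fun z : MSec M W => rres O h' (c i) • z) (mres_mres M h' h (e i)))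

/-- A finite presentation gives presentations by sections of the module and of its inverse images. -/
theorem exists_locPres (M : ModSite.Mod O)
    (hFP : SheafOfModules.IsFinitePresentation (R := ModSite.ringSh O) M) (p : X) :
    ∃ (U : Opens X) (ι κ : Type u) (_ : Fintype ι) (_ : Fintype κ)
      (π : SheafOfModules.free (R := ModSite.ringSh (O.over U)) ι ⟶ (ModSite.restr O U).obj M)
      (ψ : SheafOfModules.free (R := ModSite.ringSh (O.over U)) κ ⟶ SheafOfModules.free (R := ModSite.ringSh (O.over U)) ι)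
      (_ : Epi π) (w : ψ ≫ π = 0), p ∈ U ∧ Epi (kernel.lift π ψ w) := by
  obtain ⟨q, hq⟩ := hFP.exists_quasicoherentData
  obtain ⟨i, hi⟩ := Opens.mem_iSup.mp ((Opens.coversTop_iff (X : Type u) q.X).mp q.coversTop ▸ Opens.mem_top p)
  have := (hq.isFinite_presentation i).isFiniteType_generators
  have := (hq.isFinite_presentation i).isFiniteType_relations
  let P := q.presentation i
  have : Finite P.generators.I := inferInstance
  have : Finite P.relations.I := inferInstance
  have hw : (P.relations.π ≫ kernel.ι P.generators.π) ≫ P.generators.π = 0 := by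
    exact (Category.assoc _ _ _).trans ((congrArg (fun q => P.relations.π ≫ q) (kernel.condition _)).trans comp_zero)
  refine ⟨q.X i, P.generators.I, P.relations.I, Fintype.ofFinite _, Fintype.ofFinite _, P.generators.π,
    P.relations.π ≫ kernel.ι P.generators.π, P.generators.epi, hw, hi, ?_⟩
  have : kernel.lift P.generators.π (P.relations.π ≫ kernel.ι P.generators.π) hw = P.relations.π := by
    exact (cancel_mono (kernel.ι P.generators.π)).1 (kernel.lift_ι _ _ _)
  exact (congrArg (fun q => Epi q) this).mpr P.relations.epi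

end FModLib

namespace FModLib

variable {𝔛 : Sys.{u}} (h : 𝔛.IsFormal) (𝔉 : ModF 𝔛 h)

/-- The projection of sections to a level. -/
abbrev piSec (k : ℕ) (V : (𝔛.X 0).Opens) (x : MSec 𝔉 V) : MSec (lev h 𝔉 k) (𝔛.lvU h k V) :=
  unitSec (𝔛.gInv h k) (𝔛.OshProj h k) 𝔉 V x

/-- The projection of scalars to a level. -/
abbrev oK (k : ℕ) (V : (𝔛.X 0).Opens) (b : RSec (𝔛.Osh h) V) : RSec (𝔛.X k).sheaf (𝔛.lvU h k V) :=
  sharpSec (𝔛.gInv h k) (𝔛.OshProj h k) V b

theorem piSec_smul (k : ℕ) {V : (𝔛.X 0).Opens} (b : RSec (𝔛.Osh h) V) (x : MSec 𝔉 V) :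
    piSec h 𝔉 k V (b • x) = oK h k V b • piSec h 𝔉 k V x :=
  map_smul (((levelMor 𝔛 h k).adj.unit.app 𝔉).val.app (op V)).hom b x

theorem piSec_mres (k : ℕ) {W V : (𝔛.X 0).Opens} (hW : W ≤ V) (x : MSec 𝔉 V) :
    piSec h 𝔉 k W (mres 𝔉 hW x) = mres (lev h 𝔉 k) ((Opens.map (𝔛.gInv h k)).monotone hW) (piSec h 𝔉 k V x) :=
  PresheafOfModules.naturality_apply ((levelMor 𝔛 h k).adj.unit.app 𝔉).val (homOfLE hW).op x

variable {U V : (𝔛.X 0).Opens} {ι κ : Type u} [Fintype ι] [Fintype κ]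

/-- The generators on a level. -/
abbrev ek (k : ℕ) (e : ι → MSec 𝔉 U) (i : ι) : MSec (lev h 𝔉 k) (𝔛.lvU h k U) := piSec h 𝔉 k U (e i)

/-- The relations on a level. -/
abbrev rk (k : ℕ) (r : κ → ι → RSec (𝔛.Osh h) U) (j : κ) (i : ι) : RSec (𝔛.X k).sheaf (𝔛.lvU h k U) :=
  oK h k U (r j i)

theorem piSec_lc (k : ℕ) (hVU : V ≤ U) (e : ι → MSec 𝔉 U) (b : ι → RSec (𝔛.Osh h) V) :
    piSec h 𝔉 k V (lc 𝔉 hVU e b) =
      lc (lev h 𝔉 k) ((Opens.map (𝔛.gInv h k)).monotone hVU) (ek h 𝔉 k e) fun i => oK h k V (b i) := by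
  refine (map_sum (((levelMor 𝔛 h k).adj.unit.app 𝔉).val.app (op V)).hom _ _).trans (Finset.sum_congr rfl fun i _ => ?_)
  exact (piSec_smul h 𝔉 k (b i) _).trans
    (congrArg (fun z : MSec (lev h 𝔉 k) (𝔛.lvU h k V) => oK h k V (b i) • z)
      (piSec_mres h 𝔉 k hVU (e i)))

/-- Presentation data on `U`, valid at all levels. -/
structure PresOn (U : (𝔛.X 0).Opens) (ι κ : Type u) [Fintype ι] [Fintype κ] where
  e : ι → MSec 𝔉 U
  r : κ → ι → RSec (𝔛.Osh h) U
  pres : LocPres 𝔉 U e r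
  presLev : ∀ k, LocPres (lev h 𝔉 k) (𝔛.lvU h k U) (ek h 𝔉 k e) (rk h k r)

/-- The opens over which sections are computed. -/
def presB : Set (Opens (𝔛.X 0).toTopCat) :=
  {V | IsAffineOpen V ∧ ∃ (U : (𝔛.X 0).Opens) (ι κ : Type u) (_ : Fintype ι) (_ : Fintype κ)
    (_ : PresOn h 𝔉 U ι κ), V ≤ U}

theorem isBasis_presB (h𝔉 : IsCohF 𝔛 h 𝔉) : Opens.IsBasis (presB h 𝔉) := by
  refine Opens.isBasis_iff_nbhd.mpr fun {W p} hp => ?_
  obtain ⟨U, ι, κ, _, _, π, ψ, _, w, hpU, hex⟩ := exists_locPres 𝔉 h𝔉 p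
  obtain ⟨V, hV, hpV, hVW⟩ := Opens.isBasis_iff_nbhd.mp (𝔛.X 0).isBasis_affineOpens
    (U := W ⊓ U) (x := p) ⟨hp, hpU⟩
  refine ⟨V, ⟨hV, U, ι, κ, inferInstance, inferInstance, ⟨_, _, locPres_of_exact 𝔉 π ψ w hex, fun k => ?_⟩,
    hVW.trans inf_le_right⟩, hpV, hVW.trans inf_le_left⟩
  exact locPres_pull (𝔛.gInv h k) (𝔛.OshProj h k) U 𝔉 π ψ w hex

end FModLib

end
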