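import Groth.Agent.FModLib.LocPresFP
import Groth.Agent.FModLib.LimPres
import Groth.Agent.ModSiteLib.CoprodQc

/-!
# Presentations by possibly infinitely many sections
-/

set_option autoImplicit false
set_option linter.style.haveILetI false
set_option maxHeartbeats 800000

universe u

open CategoryTheory CategoryTheory.Limits TopologicalSpace Opposite

noncomputable section

namespace FModLib

variable {X : TopCat.{u}} {O : Sheaf (Opens.grothendieckTopology X) CommRingCat.{u}} {U : Opens X} {σ κ : Type u}

theorem sum_app' {P Q : ModSite.Mod (O.over U)} {α : Type u} (F : Finset α) (a : α → (P ⟶ Q)) (Z : Over U)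
    (y : P.val.obj (op Z)) : (∑ i ∈ F, a i).val.app (op Z) y = ∑ i ∈ F, (a i).val.app (op Z) y :=
  map_sum (AddMonoidHom.mk' (fun g : P ⟶ Q => g.val.app (op Z) y) fun _ _ => rfl) a F

theorem ιFree_coord' [DecidableEq σ] (k i : σ) :
    SheafOfModules.ιFree (R := ModSite.ringSh (O.over U)) k ≫ coord (O := O) (U := U) i =
      if k = i then 𝟙 _ else 0 := by
  refine (Cofan.IsColimit.fac (SheafOfModules.isColimitFreeCofan σ) _ k).trans ?_
  congr

theorem prj_eq_coord (i : σ) :
    Groth.Agent.CoprodQcLib.prj (fun _ : σ => ModSite.unit (O.over U)) i = coord (O := O) (U := U) i := by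
  classical
  refine Cofan.IsColimit.hom_ext (SheafOfModules.isColimitFreeCofan σ) _ _ fun j => ?_
  show Sigma.ι (fun _ : σ => ModSite.unit (O.over U)) j ≫ _ = SheafOfModules.ιFree j ≫ _
  rw [ιFree_coord']
  by_cases hj : j = i
  · subst hj
    rw [if_pos rfl]
    exact Groth.Agent.CoprodQcLib.ι_prj_self _ _
  · rw [if_neg hj]
    exact Groth.Agent.CoprodQcLib.ι_prj_ne _ hj

/-- Near a point a section of a free module is a finite combination, its other coordinates vanishing. -/
theorem exists_support (Z : Over U) (y : (SheafOfModules.free (R := ModSite.ringSh (O.over U)) σ).val.obj (op Z))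
    (p : X) (hp : p ∈ Z.left) :
    ∃ (Z' : Over U) (g : Z' ⟶ Z) (F : Finset σ), p ∈ Z'.left ∧
      (SheafOfModules.free (R := ModSite.ringSh (O.over U)) σ).val.map g.op y =
        ∑ i ∈ F, (SheafOfModules.ιFree i).val.app (op Z')
          ((coord (O := O) (U := U) i).val.app (op Z')
            ((SheafOfModules.free (R := ModSite.ringSh (O.over U)) σ).val.map g.op y)) := by
  obtain ⟨S, hS, hfix⟩ := Groth.Agent.CoprodQcLib.loc_fixed (fun _ : σ => ModSite.unit (O.over U)) Z y
  rw [GrothendieckTopology.mem_over_iff] at hS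
  obtain ⟨W, f, hf, hpW⟩ := hS p hp
  rw [Sieve.overEquiv_iff] at hf
  obtain ⟨F, hF⟩ := hfix _ hf
  refine ⟨_, _, F, hpW, hF.symm.trans ((Groth.Agent.CoprodQcLib.keep_apply _ F _ _).trans ?_)⟩
  exact Finset.sum_congr rfl fun i _ => by rw [prj_eq_coord]; rfl

variable {N : ModSite.Mod (O.over U)} (π : SheafOfModules.free (R := ModSite.ringSh (O.over U)) σ ⟶ N)

theorem app_π_finset (Z : Over U) (F : Finset σ) (c : σ → (O.over U).obj.obj (op Z)) :
    π.val.app (op Z) (∑ i ∈ F, (SheafOfModules.ιFree i).val.app (op Z) (c i)) =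
      ∑ i ∈ F, (c i • tres N Z (ev (SheafOfModules.ιFree i ≫ π)) : N.val.obj (op Z)) :=
  (map_sum (π.val.app (op Z)).hom _ _).trans
    (Finset.sum_congr rfl fun i _ => app_eq_smul (SheafOfModules.ιFree i ≫ π) Z (c i))

theorem coord_finset [DecidableEq σ] (Z : Over U) (F : Finset σ) (c : σ → (O.over U).obj.obj (op Z)) (i : σ) :
    (coord (O := O) (U := U) i).val.app (op Z)
      (∑ k ∈ F, (SheafOfModules.ιFree (R := ModSite.ringSh (O.over U)) k).val.app (op Z) (c k)) =
      if i ∈ F then c i else 0 := by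
  refine (map_sum ((coord (O := O) (U := U) i).val.app (op Z)).hom _ _).trans ?_
  refine Eq.trans (Finset.sum_congr rfl fun k _ => ?_) (Finset.sum_ite_eq' F i c)
  split_ifs with h
  · subst h
    exact congr($(congrArg (fun g : ModSite.unit (O.over U) ⟶ _ => g.val.app (op Z))
      ((ιFree_coord' k k).trans (if_pos rfl))) (c k))
  · exact congr($(congrArg (fun g : ModSite.unit (O.over U) ⟶ _ => g.val.app (op Z))
      ((ιFree_coord' k i).trans (if_neg h))) (c k))

/-- A presentation by sections with arbitrary index sets. -/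
structure QPres (M : ModSite.Mod O) (U : Opens X) (s : σ → MSec M U) (r : κ → σ → RSec O U) : Prop where
  gen : ∀ (V : Opens X) (hV : V ≤ U) (x : MSec M V), ∀ p ∈ V,
    ∃ (W : Opens X) (hW : W ≤ V) (F : Finset σ) (c : σ → RSec O W), p ∈ W ∧
      mres M hW x = ∑ i ∈ F, (c i • mres M (hW.trans hV) (s i) : MSec M W)
  ex : ∀ (V : Opens X) (hV : V ≤ U) (F : Finset σ) (c : σ → RSec O V), (∀ i ∉ F, c i = 0) →
    ∑ i ∈ F, (c i • mres M hV (s i) : MSec M V) = 0 → ∀ p ∈ V,
      ∃ (W : Opens X) (hW : W ≤ V) (G : Finset κ) (d : κ → RSec O W), p ∈ W ∧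
        ∀ i, rres O hW (c i) = ∑ j ∈ G, d j * rres O (hW.trans hV) (r j i)
  supp : ∀ (j : κ), ∀ p ∈ U, ∃ (W : Opens X) (hW : W ≤ U) (F : Finset σ), p ∈ W ∧
    (∀ i ∉ F, rres O hW (r j i) = 0) ∧ ∑ i ∈ F, (rres O hW (r j i) • mres M hW (s i) : MSec M W) = 0

variable (M : ModSite.Mod O) (π : SheafOfModules.free (R := ModSite.ringSh (O.over U)) σ ⟶ (ModSite.restr O U).obj M)
  (ψ : SheafOfModules.free (R := ModSite.ringSh (O.over U)) κ ⟶ SheafOfModules.free (R := ModSite.ringSh (O.over U)) σ)

theorem gen_of_epi [Epi π] (V : Opens X) (hV : V ≤ U) (x : MSec M V) (p : X) (hp : p ∈ V) :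
    ∃ (W : Opens X) (hW : W ≤ V) (F : Finset σ) (c : σ → RSec O W), p ∈ W ∧
      mres M hW x = ∑ i ∈ F, (c i • mres M (hW.trans hV) (ev (SheafOfModules.ιFree i ≫ π)) : MSec M W) := by
  obtain ⟨Z', g, ⟨y, hy⟩, hpZ⟩ := exists_of_loc (_root_.ModSiteLib.loc_of_epi π (V := oMk hV) x) p hp
  obtain ⟨Z'', g', F, hpZ', hF⟩ := exists_support Z' y p hpZ
  refine ⟨Z''.left, g'.left.le.trans g.left.le, F, fun i => (coord (O := O) (U := U) i).val.app (op Z'')
    ((SheafOfModules.free (R := ModSite.ringSh (O.over U)) σ).val.map g'.op y), hpZ', ?_⟩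
  refine Eq.trans ?_ ((congrArg (π.val.app (op Z'')) hF).trans (app_π_finset π Z'' F _))
  refine Eq.trans ?_ (PresheafOfModules.naturality_apply π.val g'.op y).symm
  refine Eq.trans ?_ (congrArg (((ModSite.restr O U).obj M).val.map g'.op) hy).symm
  exact (mres_mres M g'.left.le g.left.le x).symm

open Groth.Agent.ModSiteLib in
/-- **A presentation gives a presentation by sections.** -/
theorem qPres_of_exact [Epi π] (w : ψ ≫ π = 0) (hex : Epi (kernel.lift π ψ w)) :
    QPres M U (fun i => ev (SheafOfModules.ιFree i ≫ π))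
      (fun j i => ev (SheafOfModules.ιFree j ≫ ψ ≫ coord (O := O) (U := U) i)) where
  gen := gen_of_epi M π
  ex V hV F c hc0 hc p hp := by
    classical
    let y := ∑ i ∈ F, (SheafOfModules.ιFree (R := ModSite.ringSh (O.over U)) i).val.app (op (oMk hV)) (c i)
    obtain ⟨q, hq⟩ := _root_.ModSiteLib.exists_kernel_section π (oMk hV) y
      ((app_π_finset π (oMk hV) F c).trans hc)
    obtain ⟨Z', g, ⟨z, hz⟩, hpZ⟩ :=
      exists_of_loc (_root_.ModSiteLib.loc_of_epi (kernel.lift π ψ w) (V := oMk hV) q) p hp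
    obtain ⟨Z'', g', G, hpZ', hG⟩ := exists_support Z' z p hpZ
    let z' := (SheafOfModules.free (R := ModSite.ringSh (O.over U)) κ).val.map g'.op z
    refine ⟨Z''.left, g'.left.le.trans g.left.le, G, fun j => (coord (O := O) (U := U) j).val.app (op Z'') z',
      hpZ', fun i => ?_⟩
    have h1 : ψ.val.app (op Z'') z' =
        (SheafOfModules.free (R := ModSite.ringSh (O.over U)) σ).val.map (g' ≫ g).op y := by
      refine (congr($(congrArg (fun f : SheafOfModules.free (R := ModSite.ringSh (O.over U)) κ ⟶ _ =>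
        f.val.app (op Z'')) (kernel.lift_ι π ψ w).symm) z')).trans ?_
      refine (congrArg ((kernel.ι π).val.app (op Z''))
        ((PresheafOfModules.naturality_apply (kernel.lift π ψ w).val g'.op z).trans
          (congrArg ((kernel π).val.map g'.op) hz))).trans ?_
      refine (congrArg ((kernel.ι π).val.app (op Z''))
        ((kernel π).val.presheaf.map_comp_apply g.op g'.op q).symm).trans ?_
      exact (PresheafOfModules.naturality_apply (kernel.ι π).val (g' ≫ g).op q).trans (congrArg _ hq)
    refine Eq.trans ?_ ((congrArg ((coord (O := O) (U := U) i).val.app (op Z'')) h1).symm.trans ?_)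
    · refine Eq.trans ?_ (PresheafOfModules.naturality_apply (coord (O := O) (U := U) i).val (g' ≫ g).op y).symm
      refine congrArg ((O.over U).obj.map (g' ≫ g).op) ?_
      refine Eq.trans ?_ (coord_finset (oMk hV) F c i).symm
      split_ifs with h
      · rfl
      · exact hc0 i h
    · refine (congrArg ((ψ ≫ coord (O := O) (U := U) i).val.app (op Z'')) hG).trans ?_
      exact app_π_finset (ψ ≫ coord (O := O) (U := U) i) Z'' G _
  supp j p hp := by
    classical
    let y := ψ.val.app (op (oTop U)) ((SheafOfModules.ιFree (R := ModSite.ringSh (O.over U)) j).val.app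
      (op (oTop U)) (1 : (O.over U).obj.obj (op (oTop U))))
    obtain ⟨Z', g, F, hpZ, hF⟩ := exists_support (oTop U) y p hp
    have hr : ∀ i, rres O g.left.le (ev (SheafOfModules.ιFree j ≫ ψ ≫ coord (O := O) (U := U) i)) =
        (coord (O := O) (U := U) i).val.app (op Z')
          ((SheafOfModules.free (R := ModSite.ringSh (O.over U)) σ).val.map g.op y) := fun i =>
      (PresheafOfModules.naturality_apply (coord (O := O) (U := U) i).val g.op y).symm
    refine ⟨Z'.left, g.left.le, F, hpZ, fun i hi => ?_, ?_⟩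
    · refine (hr i).trans ?_
      exact (congrArg ((coord (O := O) (U := U) i).val.app (op Z')) hF).trans
        ((coord_finset Z' F _ i).trans (if_neg hi))
    · let cF : σ → RSec O Z'.left := fun i => (coord (O := O) (U := U) i).val.app (op Z')
        ((SheafOfModules.free (R := ModSite.ringSh (O.over U)) σ).val.map g.op y)
      let sF : σ → MSec M Z'.left := fun i => mres M g.left.le (ev (SheafOfModules.ιFree i ≫ π))
      show ∑ i ∈ F, (rres O g.left.le (ev (SheafOfModules.ιFree j ≫ ψ ≫ coord i)) • sF i : MSec M Z'.left) = 0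
      have h1 : ∑ i ∈ F, (rres O g.left.le (ev (SheafOfModules.ιFree j ≫ ψ ≫ coord i)) • sF i : MSec M Z'.left) =
          ∑ i ∈ F, (cF i • sF i : MSec M Z'.left) :=
        Finset.sum_congr rfl fun i _ => congrArg (fun a : RSec O Z'.left => a • sF i) (hr i)
      refine h1.trans ?_
      refine Eq.trans (app_π_finset π Z' F cF).symm ((congrArg (π.val.app (op Z')) hF).symm.trans ?_)
      refine (PresheafOfModules.naturality_apply π.val g.op y).trans ?_
      refine (congrArg (((ModSite.restr O U).obj M).val.map g.op)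
        (congr($(congrArg (fun f : SheafOfModules.free (R := ModSite.ringSh (O.over U)) κ ⟶ _ =>
          f.val.app (op (oTop U))) w) _))).trans (map_zero _)

/-- A quasi-coherent module has local presentations by sections. -/
theorem exists_qPres (hq : SheafOfModules.IsQuasicoherent.{u} (R := ModSite.ringSh O) M) (p : X) :
    ∃ (U : Opens X) (σ κ : Type u) (s : σ → MSec M U) (r : κ → σ → RSec O U), p ∈ U ∧ QPres M U s r := by
  obtain ⟨⟨q⟩⟩ := hq
  obtain ⟨i, hi⟩ := Opens.mem_iSup.mp ((Opens.coversTop_iff (X : Type u) q.X).mp q.coversTop ▸ Opens.mem_top p)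
  let P := q.presentation i
  have hw : (P.relations.π ≫ kernel.ι P.generators.π) ≫ P.generators.π = 0 := by
    exact (Category.assoc _ _ _).trans ((congrArg (fun q => P.relations.π ≫ q) (kernel.condition _)).trans comp_zero)
  have := P.generators.epi
  have hex : Epi (kernel.lift P.generators.π (P.relations.π ≫ kernel.ι P.generators.π) hw) := by
    have : kernel.lift P.generators.π (P.relations.π ≫ kernel.ι P.generators.π) hw = P.relations.π := by
      exact (cancel_mono (kernel.ι P.generators.π)).1 (kernel.lift_ι _ _ _)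
    exact (congrArg (fun q => Epi q) this).mpr P.relations.epi
  exact ⟨q.X i, P.generators.I, P.relations.I, _, _, hi, @qPres_of_exact _ _ _ _ _ M P.generators.π _ P.generators.epi hw hex⟩

theorem sum_eq_lc {n : Type u} [Fintype n] [DecidableEq n] {V W : Opens X} (h : W ≤ V) (e : n → MSec M V)
    (F : Finset n) (c : n → RSec O W) :
    ∑ k ∈ F, (c k • mres M h (e k) : MSec M W) = lc M h e fun k => if k ∈ F then c k else 0 := by
  refine (Finset.sum_congr rfl fun k hk => ?_).trans (Finset.sum_subset (Finset.subset_univ F) fun k _ hk => ?_)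
  · exact congrArg (fun a : RSec O W => (a • mres M h (e k) : MSec M W)) (if_pos hk).symm
  · exact (congrArg (fun a : RSec O W => (a • mres M h (e k) : MSec M W)) (if_neg hk)).trans (zero_smul _ _)

/-- A module of finite type has finitely many local generators. -/
theorem exists_finGen (hFT : SheafOfModules.IsFiniteType.{u} (R := ModSite.ringSh O) M) (p : X) :
    ∃ (U : Opens X) (n : Type u) (_ : Fintype n) (e : n → MSec M U), p ∈ U ∧
      ∀ (V : Opens X) (hV : V ≤ U) (x : MSec M V), ∀ q ∈ V,
        ∃ (W : Opens X) (hW : W ≤ V) (c : n → RSec O W), q ∈ W ∧ mres M hW x = lc M (hW.trans hV) e c := by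
  classical
  obtain ⟨q, hq⟩ := hFT.exists_localGeneratorsData
  obtain ⟨i, hi⟩ := Opens.mem_iSup.mp ((Opens.coversTop_iff (X : Type u) q.X).mp q.coversTop ▸ Opens.mem_top p)
  have : Finite (q.generators i).I := (hq.isFiniteType i).finite
  letI := Fintype.ofFinite (q.generators i).I
  have := (q.generators i).epi
  refine ⟨q.X i, (q.generators i).I, inferInstance,
    fun k => ev (SheafOfModules.ιFree k ≫ (q.generators i).π), hi, fun V hV x a ha => ?_⟩
  obtain ⟨W, hW, F, c, haW, hc⟩ := @gen_of_epi _ _ _ _ M (q.generators i).π (q.generators i).epi V hV x a ha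
  exact ⟨W, hW, fun k => if k ∈ F then c k else 0, haW, hc.trans (sum_eq_lc M (hW.trans hV) _ F c)⟩

end FModLib

end
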