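import Groth.Agent.FModLib.LimSec

/-!
# A locally presented module is the limit of its levels on a basis
-/

set_option autoImplicit false
set_option linter.style.haveILetI false
set_option maxHeartbeats 800000

universe u

open CategoryTheory CategoryTheory.Limits AlgebraicGeometry TopologicalSpace Opposite FSch

noncomputable section

namespace FModLib

variable {𝔛 : Sys.{u}} (hloc : 𝔛.IsLocNoethFormal) (𝔊 : ModF 𝔛 hloc.1)

/-- The levels as abelian sheaves. -/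
abbrev towG (k : ℕ) : QCohLib.AbSh (𝔛.X 0).toTopCat := (SheafOfModules.toSheaf (ModSite.ringSh (𝔛.Osh hloc.1))).obj
  ((levelMor 𝔛 hloc.1 k).push.obj (lev hloc.1 𝔊 k))

/-- The transition maps. -/
abbrev towT (k : ℕ) : towG hloc 𝔊 (k + 1) ⟶ towG hloc 𝔊 k :=
  (SheafOfModules.toSheaf _).map (levelTrans 𝔛 hloc.1 𝔊 k)

/-- The projections. -/
abbrev towP (k : ℕ) : (SheafOfModules.toSheaf (ModSite.ringSh (𝔛.Osh hloc.1))).obj 𝔊 ⟶ towG hloc 𝔊 k :=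
  (SheafOfModules.toSheaf _).map ((levelMor 𝔛 hloc.1 k).adj.unit.app 𝔊)

theorem towP_towT (k : ℕ) : towP hloc 𝔊 (k + 1) ≫ towT hloc 𝔊 k = towP hloc 𝔊 k :=
  ((SheafOfModules.toSheaf _).map_comp _ _).symm.trans
    (congrArg (SheafOfModules.toSheaf _).map (unit_levelTrans 𝔛 hloc.1 𝔊 k))

theorem towT_piSec (k : ℕ) (V : (𝔛.X 0).Opens) (x : MSec 𝔊 V) :
    (towT hloc 𝔊 k).hom.app (op V) ((towP hloc 𝔊 (k + 1)).hom.app (op V) x) = (towP hloc 𝔊 k).hom.app (op V) x :=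
  congr($(congrArg (fun a : (SheafOfModules.toSheaf (ModSite.ringSh (𝔛.Osh hloc.1))).obj 𝔊 ⟶ towG hloc 𝔊 k =>
    a.hom.app (op V)) (towP_towT hloc 𝔊 k)) x)

/-- **A coherent module is the limit of its levels.** -/
theorem bTower (h𝔊 : IsCohF 𝔛 hloc.1 𝔊) :
    BTower (presB hloc.1 𝔊) (towG hloc 𝔊) (towT hloc 𝔊) (towP hloc 𝔊) := by
  have hq : ∀ k, Coh.IsQCoh (lev hloc.1 𝔊 k) := fun k => (isCoh_lev hloc.1 𝔊 h𝔊 k).1
  have hB := isBasis_presB hloc.1 𝔊 h𝔊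
  refine ⟨hB, ?_, ?_, ?_, ?_⟩
  · rintro V ⟨hV, U, ι, κ, _, _, D, hVU⟩ s hs
    choose W hWB hpW hWV b hb using fun p : V => show ∃ W ∈ presB hloc.1 𝔊, p.1 ∈ W ∧ ∃ (hWV : W ≤ V)
        (b : ι → RSec (𝔛.Osh hloc.1) W), mres 𝔊 hWV s = lc 𝔊 (hWV.trans hVU) D.e b from by
      obtain ⟨W, hW, c, hpW, hc⟩ := D.pres.gen V hVU s p.1 p.2
      obtain ⟨W', hW'B, hpW', hW'W⟩ := Opens.isBasis_iff_nbhd.mp hB hpW
      exact ⟨W', hW'B, hpW', hW'W.trans hW, fun i => rres (𝔛.Osh hloc.1) hW'W (c i),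
        (mres_mres 𝔊 hW'W hW s).symm.trans ((congrArg (mres 𝔊 hW'W) hc).trans (mres_lc 𝔊 hW'W _ D.e c))⟩
    refine TopCat.Sheaf.eq_of_locally_eq'
      ((SheafOfModules.toSheaf (ModSite.ringSh (𝔛.Osh hloc.1))).obj 𝔊 : TopCat.Sheaf AddCommGrpCat _)
      W V (fun p => homOfLE (hWV p)) (fun p hp => Opens.mem_iSup.mpr ⟨⟨p, hp⟩, hpW ⟨p, hp⟩⟩) s 0 fun p => ?_
    refine ((hb p).trans ?_).trans (map_zero _).symm
    refine eq_zero_of_piSec hloc 𝔊 D (hWB p).1 ((hWV p).trans hVU) (b p) fun k => ?_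
    refine (congrArg (piSec hloc.1 𝔊 k (W p)) (hb p).symm).trans ((piSec_mres hloc.1 𝔊 k (hWV p) s).trans ?_)
    exact (congrArg (mres (lev hloc.1 𝔊 k) _) (hs k)).trans (map_zero _)
  · rintro V ⟨hV, U, ι, κ, _, _, D, hVU⟩ s hs
    exact exists_of_compat hloc 𝔊 D hV hVU s fun k x hx =>
      (towT_piSec hloc 𝔊 k V x).symm.trans ((congrArg ((towT hloc 𝔊 k).hom.app (op V)) hx).trans (hs k))
  · rintro V ⟨hV, U, ι, κ, _, _, D, hVU⟩ k m
    obtain ⟨b, hb⟩ := exists_gen hloc 𝔊 D hV hVU k m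
    exact ⟨(towP hloc 𝔊 (k + 1)).hom.app (op V) (lc 𝔊 hVU D.e b),
      (towT_piSec hloc 𝔊 k V _).trans hb⟩
  · intro k V hV n
    have hac : QCohLib.AcyclicAbove (𝔛.gInv hloc.1 k) (QCohLib.affSet (𝔛.X 0)) 0
        ((QCohLib.toAbF (𝔛.X k)).obj (lev hloc.1 𝔊 k)) := fun W hW m _ =>
      QCohLib.subsingleton_HU_affine (lev hloc.1 𝔊 k) m (isAffineOpen_lvU hloc.1 hW k)
    obtain ⟨e⟩ := QCohLib.nonempty_pfEquiv QCohLib.isBasis_affSet (n + 1) _ hac V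
    have := QCohLib.subsingleton_HU_affine (lev hloc.1 𝔊 k) n (isAffineOpen_lvU hloc.1 hV.1 k)
    exact @Equiv.subsingleton _ _ e.toEquiv this

end FModLib

end
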