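import Groth.Agent.FModLib.Levels
import Groth.Agent.GrSysLib.Step
import Groth.Agent.QCohLib.AffineFinite
import Groth.Prelude.Def_Formal

/-!
# A module on a scheme and its completion: the levels are the reductions
-/

set_option autoImplicit false
set_option linter.style.haveILetI false
set_option maxHeartbeats 800000

universe u

open CategoryTheory CategoryTheory.Limits AlgebraicGeometry TopologicalSpace Opposite FSch

noncomputable section

namespace FModLib

variable {𝔛 : Sys.{u}} (h : 𝔛.IsFormal) {Y : Scheme.{u}} (p : ∀ n, 𝔛.X n ⟶ Y) (hp : ∀ n, 𝔛.ι n ≫ p (n + 1) = p n)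

theorem isIso_schPushCompare (k : ℕ) : IsIso (schPushCompare 𝔛 h p hp k) := by
  have : ∀ G, IsIso ((schPushCompare 𝔛 h p hp k).app G) := fun G => by
    refine QCohLib.isIso_of_bijective_affine _ fun U _ => ?_
    show Function.Bijective fun x => G.val.map (homOfLE (lvU_p 𝔛 h p hp k U).ge).op x
    have e1 : (homOfLE (lvU_p 𝔛 h p hp k U).le).op ≫ (homOfLE (lvU_p 𝔛 h p hp k U).ge).op = 𝟙 _ := Subsingleton.elim _ _
    have e2 : (homOfLE (lvU_p 𝔛 h p hp k U).ge).op ≫ (homOfLE (lvU_p 𝔛 h p hp k U).le).op = 𝟙 _ := Subsingleton.elim _ _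
    refine Function.bijective_iff_has_inverse.mpr ⟨fun y => G.val.map (homOfLE (lvU_p 𝔛 h p hp k U).le).op y, fun x => ?_, fun y => ?_⟩
    · exact (G.val.presheaf.map_comp_apply _ _ x).symm.trans (congr($((congrArg G.val.presheaf.map e2).trans (G.val.presheaf.map_id _)) x))
    · exact (G.val.presheaf.map_comp_apply _ _ y).symm.trans (congr($((congrArg G.val.presheaf.map e1).trans (G.val.presheaf.map_id _)) y))
  exact NatIso.isIso_of_isIso_app _

variable (F : Y.Modules)

/-- The completion of a module. -/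
abbrev cmpl : ModF 𝔛 h := (toSchemeMor 𝔛 h p hp).pull.obj F

/-- The map to the direct image of a level of the completion. -/
def eta (k : ℕ) : F ⟶ (toSchemeMor 𝔛 h p hp).push.obj ((levelMor 𝔛 h k).push.obj (lev h (cmpl h p hp F) k)) :=
  (toSchemeMor 𝔛 h p hp).adj.unit.app F ≫
    (toSchemeMor 𝔛 h p hp).push.map ((levelMor 𝔛 h k).adj.unit.app (cmpl h p hp F))

theorem eta_levelTrans (k : ℕ) :
    eta h p hp F (k + 1) ≫ (toSchemeMor 𝔛 h p hp).push.map (levelTrans 𝔛 h (cmpl h p hp F) k) = eta h p hp F k := by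
  exact (Category.assoc _ _ _).trans (congrArg (fun q => (toSchemeMor 𝔛 h p hp).adj.unit.app F ≫ q)
    (((toSchemeMor 𝔛 h p hp).push.map_comp _ _).symm.trans
      (congrArg (toSchemeMor 𝔛 h p hp).push.map (unit_levelTrans 𝔛 h (cmpl h p hp F) k))))

theorem eta_eq_unit (k : ℕ) : ∃ θ : (Scheme.Modules.pullback (p k)).obj F ≅ lev h (cmpl h p hp F) k,
    eta h p hp F k = (Scheme.Modules.pullbackPushforwardAdjunction (p k)).unit.app F ≫
      (Scheme.Modules.pushforward (p k)).map θ.hom ≫ (schPushCompare 𝔛 h p hp k).app (lev h (cmpl h p hp F) k) := by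
  have := isIso_schPushCompare h p hp k
  let e := (asIso (schPushCompare 𝔛 h p hp k)).symm
  let a := ((toSchemeMor 𝔛 h p hp).adj.comp (levelMor 𝔛 h k).adj).ofNatIsoRight e
  let θ := ((Scheme.Modules.pullbackPushforwardAdjunction (p k)).leftAdjointUniq a).app F
  refine ⟨θ, ?_⟩
  have h1 := (Scheme.Modules.pullbackPushforwardAdjunction (p k)).unit_leftAdjointUniq_hom_app a F
  refine Eq.trans ?_ ((congrArg (fun q => q ≫ (schPushCompare 𝔛 h p hp k).app (lev h (cmpl h p hp F) k)) h1).symm.trans (Category.assoc _ _ _))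
  refine Eq.trans ?_ (congrArg (fun q => q ≫ (schPushCompare 𝔛 h p hp k).app (lev h (cmpl h p hp F) k))
    (show a.unit.app F = eta h p hp F k ≫ e.hom.app (lev h (cmpl h p hp F) k) by
      simp [a, Adjunction.ofNatIsoRight, eta]; rfl)).symm
  refine Eq.symm ((Category.assoc _ _ _).trans ?_)
  exact (congrArg (fun q => eta h p hp F k ≫ q) ((asIso (schPushCompare 𝔛 h p hp k)).inv_hom_id_app _)).trans (Category.comp_id _)

variable {A : Type u} [CommRing A] [Y.Over (Spec (CommRingCat.of A))] (I : Ideal A)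
  [∀ k, IsClosedImmersion (p k)]
  (hzero : ∀ k, ∀ b ∈ I ^ (k + 1), Coh.toGlobal (p k ≫ (Y ↘ Spec (CommRingCat.of A))) b = 0)
  (hker : ∀ k (W : Y.affineOpens), (p k).ker.ideal W ≤ (I ^ (k + 1)).map (FormalLib.rhoA A W.1))

include hzero hker in
/-- **The reductions are the levels of the completion.** -/
theorem exists_modPow_iso [Coh.IsQCoh F] (k : ℕ) :
    ∃ α : Formal.modPow I (k + 1) F ≅
        (toSchemeMor 𝔛 h p hp).push.obj ((levelMor 𝔛 h k).push.obj (lev h (cmpl h p hp F) k)),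
      Formal.modPowπ I (k + 1) F ≫ α.hom = eta h p hp F k := by
  obtain ⟨θ, hθ⟩ := eta_eq_unit h p hp F k
  letI : (𝔛.X k).Over (Spec (CommRingCat.of A)) := ⟨p k ≫ (Y ↘ Spec (CommRingCat.of A))⟩
  have hd := GrSysLib.isIso_desc_unit (p k) rfl (I ^ (k + 1)) (hzero k) (hker k) F
  have := isIso_schPushCompare h p hp k
  refine ⟨@asIso _ _ _ _ (cokernel.desc _ ((Scheme.Modules.pullbackPushforwardAdjunction (p k)).unit.app F)
      (GrSysLib.smulFamily_unit (p k) rfl (I ^ (k + 1)) (hzero k) F)) hd ≪≫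
    (Scheme.Modules.pushforward (p k)).mapIso θ ≪≫ (asIso (schPushCompare 𝔛 h p hp k)).app _, ?_⟩
  rw [hθ]
  show Formal.modPowπ I (k + 1) F ≫ _ ≫ _ ≫ _ = _
  exact (Category.assoc _ _ _).symm.trans (congrArg (fun q => q ≫ _ ≫ _) (cokernel.π_desc _ _ _))

theorem epi_modPowπ (n : ℕ) : Epi (Formal.modPowπ I n F) := coequalizer.π_epi

theorem comm_of_modPowπ (k : ℕ)
    (α : Formal.modPow I (k + 1) F ≅
      (toSchemeMor 𝔛 h p hp).push.obj ((levelMor 𝔛 h k).push.obj (lev h (cmpl h p hp F) k)))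
    (hα : Formal.modPowπ I (k + 1) F ≫ α.hom = eta h p hp F k)
    (β : Formal.modPow I (k + 1 + 1) F ≅
      (toSchemeMor 𝔛 h p hp).push.obj ((levelMor 𝔛 h (k + 1)).push.obj (lev h (cmpl h p hp F) (k + 1))))
    (hβ : Formal.modPowπ I (k + 1 + 1) F ≫ β.hom = eta h p hp F (k + 1)) :
    β.hom ≫ (toSchemeMor 𝔛 h p hp).push.map (levelTrans 𝔛 h (cmpl h p hp F) k) =
      Formal.modPowTrans I (k + 1) F ≫ α.hom := by
  have := epi_modPowπ F I (k + 1 + 1)
  refine (cancel_epi (Formal.modPowπ I (k + 1 + 1) F)).1 ?_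
  rw [reassoc_of% hβ, eta_levelTrans, ← Category.assoc, Formal.modPowπ_trans, hα]

end FModLib

end
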