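import Groth.Agent.DescSecLib.ExtFunctor
import Groth.Agent.CohTopLib.Basic
import Groth.Prelude.Def_CohPull
import Groth.Prelude.Def_FixPt

/-!
# Adjoint exact functors and `Ext`; cohomology along closed embeddings, naturally
-/

set_option autoImplicit false
set_option linter.style.haveILetI false
set_option backward.isDefEq.respectTransparency false
set_option backward.isDefEq.respectTransparency.types false

universe w w' v v' u u'

open CategoryTheory CategoryTheory.Limits CategoryTheory.Abelian

noncomputable section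

namespace FModLib

variable {C : Type u} [Category.{v} C] [Abelian C] [HasExt.{w} C] [EnoughInjectives C]
  {D : Type u'} [Category.{v'} D] [Abelian D] [HasExt.{w'} D] [EnoughInjectives D]
  {L : C ⥤ D} {R : D ⥤ C} (adj : L ⊣ R)
  [L.Additive] [PreservesFiniteLimits L] [PreservesFiniteColimits L]
  [R.Additive] [PreservesFiniteLimits R] [PreservesFiniteColimits R]

/-- The adjunct of a class. -/
def extAdjHom (A : C) (B : D) (n : ℕ) : Ext.{w'} (L.obj A) B n →+ Ext.{w} A (R.obj B) n :=
  (AddMonoidHom.mk' (fun e => (Ext.mk₀ (adj.unit.app A)).comp e (zero_add n))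
    (fun _ _ => Ext.comp_add _ _ _ _)).comp (R.mapExtAddHom _ _ n)

theorem extAdjHom_apply (A : C) (B : D) (n : ℕ) (x : Ext.{w'} (L.obj A) B n) :
    extAdjHom adj A B n x = (Ext.mk₀ (adj.unit.app A)).comp (x.mapExactFunctor R) (zero_add n) := rfl

theorem extAdjHom_natural (A : C) {B B' : D} (φ : B ⟶ B') (n : ℕ) (x : Ext.{w'} (L.obj A) B n) :
    extAdjHom adj A B' n (x.comp (Ext.mk₀ φ) (add_zero n)) =
      (extAdjHom adj A B n x).comp (Ext.mk₀ (R.map φ)) (add_zero n) := by
  rw [extAdjHom_apply, extAdjHom_apply, Ext.mapExactFunctor_comp, Ext.mapExactFunctor_mk₀,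
    Ext.comp_assoc_of_third_deg_zero]

/-- **`Ext` along an adjunction of exact functors.** -/
theorem extAdjHom_bijective (A : C) (B : D) (n : ℕ) : Function.Bijective (extAdjHom adj A B n) := by
  haveI : PreservesFiniteLimits (R ⋙ L) := comp_preservesFiniteLimits R L
  haveI : PreservesFiniteColimits (R ⋙ L) := comp_preservesFiniteColimits R L
  haveI : PreservesFiniteLimits (L ⋙ R) := comp_preservesFiniteLimits L R
  haveI : PreservesFiniteColimits (L ⋙ R) := comp_preservesFiniteColimits L R
  let Ψ : Ext.{w} A (R.obj B) n → Ext.{w'} (L.obj A) B n := fun y =>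
    (y.mapExactFunctor L).comp (Ext.mk₀ (adj.counit.app B)) (add_zero n)
  have h1 : ∀ x, Ψ (extAdjHom adj A B n x) = x := fun x => by
    simp only [Ψ, extAdjHom_apply, Ext.mapExactFunctor_comp, Ext.mapExactFunctor_mk₀]
    rw [Ext.comp_assoc_of_third_deg_zero, ← DescSecLib.mapExactFunctor_compFunctor R L x,
      DescSecLib.mapExactFunctor_natTrans adj.counit x, DescSecLib.mapExactFunctor_idFunctor, ← Ext.comp_assoc_of_second_deg_zero]
    simp
  have h2 : ∀ y, extAdjHom adj A B n (Ψ y) = y := fun y => by
    simp only [Ψ, extAdjHom_apply, Ext.mapExactFunctor_comp, Ext.mapExactFunctor_mk₀]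
    rw [← DescSecLib.mapExactFunctor_compFunctor L R y, ← Ext.comp_assoc_of_third_deg_zero,
      ← DescSecLib.mapExactFunctor_natTrans adj.unit y, DescSecLib.mapExactFunctor_idFunctor, Ext.comp_assoc_of_second_deg_zero]
    simp
  exact ⟨Function.LeftInverse.injective h1, Function.RightInverse.surjective h2⟩

end FModLib

namespace FModLib

universe z

open AlgebraicGeometry TopologicalSpace Opposite

variable {X Y : Scheme.{z}} (f : X ⟶ Y) [IsClosedImmersion f]

instance additive_push : (CohTop.push f.base).Additive := (CohPull.invPushAdj f.base).right_adjoint_additive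

instance preservesFiniteLimits_push : PreservesFiniteLimits (CohTop.push f.base) :=
  have : PreservesLimitsOfSize.{0, 0} (CohTop.push f.base) := (CohPull.invPushAdj f.base).rightAdjoint_preservesLimits
  PreservesLimitsOfSize.preservesFiniteLimits _

instance preservesFiniteColimits_push : PreservesFiniteColimits (CohTop.push f.base) := by
  have hx : ∀ S : ShortComplex (CohTop.Ab X.toTopCat), S.ShortExact → (S.map (CohTop.push f.base)).ShortExact :=
    fun S hS => CohTopLib.pf_shortExact_of_isClosedEmbedding f.base f.isClosedEmbedding hS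
  exact (((Functor.exact_tfae (CohTop.push f.base)).out 0 3 rfl rfl).mp hx).2

/-- The identification of constant sheaves. -/
def constIso : (constantSheaf (Opens.grothendieckTopology X) AddCommGrpCat.{z}).obj (AddCommGrpCat.of (ULift ℤ)) ≅
    (CohPull.inv f.base).obj ((constantSheaf (Opens.grothendieckTopology Y) AddCommGrpCat.{z}).obj (AddCommGrpCat.of (ULift ℤ))) :=
  ((FixPt.zpullConstIso f).app (AddCommGrpCat.of (ULift ℤ))).symm

/-- The map on cohomology along a closed immersion. -/
def hPushHom (G : CohTop.Ab X.toTopCat) (n : ℕ) : Sheaf.H G n →+ Sheaf.H ((CohTop.push f.base).obj G) n :=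
  (extAdjHom (CohPull.invPushAdj f.base) _ G n).comp
    (AddMonoidHom.mk' (fun e => (Ext.mk₀ (constIso f).inv).comp e (zero_add n)) (fun _ _ => Ext.comp_add _ _ _ _))

theorem hPushHom_natural {G G' : CohTop.Ab X.toTopCat} (φ : G ⟶ G') (n : ℕ) (x : Sheaf.H G n) :
    hPushHom f G' n (Sheaf.H.map φ n x) = Sheaf.H.map ((CohTop.push f.base).map φ) n (hPushHom f G n x) :=
  (congrArg (extAdjHom (CohPull.invPushAdj f.base) _ G' n) (Ext.comp_assoc_of_third_deg_zero _ _ _ (zero_add n)).symm).trans
    (extAdjHom_natural (CohPull.invPushAdj f.base) _ φ n _)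

/-- **Cohomology along a closed immersion, naturally.** -/
theorem hPushHom_bijective (G : CohTop.Ab X.toTopCat) (n : ℕ) : Function.Bijective (hPushHom f G n) := by
  refine (extAdjHom_bijective (CohPull.invPushAdj f.base) _ G n).comp
    (Function.bijective_iff_has_inverse.mpr ⟨fun e => (Ext.mk₀ (constIso f).hom).comp e (zero_add n), fun x => ?_, fun x => ?_⟩)
  · show (Ext.mk₀ (constIso f).hom).comp ((Ext.mk₀ (constIso f).inv).comp x (zero_add n)) (zero_add n) = x
    simp
  · show (Ext.mk₀ (constIso f).inv).comp ((Ext.mk₀ (constIso f).hom).comp x (zero_add n)) (zero_add n) = x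
    simp

end FModLib

end
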