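import Groth.Agent.FComplLib.Affine
import Groth.Agent.FComplLib.Thicken
import Groth.Prelude.Def_FSch5

/-!
# Sections of the levels over an affine open of the common space
-/

set_option autoImplicit false
set_option linter.style.haveILetI false

universe u

open CategoryTheory CategoryTheory.Limits AlgebraicGeometry TopologicalSpace Opposite FSch

noncomputable section

namespace FModLib

theorem ker_appLE_of_eq {Z W : Scheme.{u}} (g : Z ⟶ W) (U : W.Opens) (V : Z.Opens)
    (e : V ≤ g ⁻¹ᵁ U) (he : g ⁻¹ᵁ U = V) :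
    RingHom.ker (g.appLE U V e).hom = RingHom.ker (g.app U).hom := by
  subst he
  rw [Scheme.Hom.app_eq_appLE]

variable {𝔛 : Sys.{u}} (h : 𝔛.IsFormal)

theorem gInv_zero_aff : 𝔛.gInv h 0 = 𝟙 _ := by
  have e := Sys.gInv_toX_base 𝔛 h 0
  change 𝔛.gInv h 0 ≫ 𝟙 _ = 𝟙 _ at e
  exact (Category.comp_id _).symm.trans e

theorem lvU_le_toX (n : ℕ) (V : (𝔛.X 0).Opens) : 𝔛.lvU h 0 V ≤ 𝔛.toX n ⁻¹ᵁ 𝔛.lvU h n V := by
  show (Opens.map (𝔛.gInv h 0)).obj V ≤ (Opens.map ((𝔛.toX n).base ≫ 𝔛.gInv h n)).obj V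
  rw [Sys.toX_base_gInv, gInv_zero_aff]

theorem toX_preimage (n : ℕ) (V : (𝔛.X 0).Opens) : 𝔛.toX n ⁻¹ᵁ 𝔛.lvU h n V = V := by
  change (Opens.map ((𝔛.toX n).base ≫ 𝔛.gInv h n)).obj V = V
  rw [Sys.toX_base_gInv]
  rfl

theorem isAffineOpen_lvU {V : (𝔛.X 0).Opens} (hV : IsAffineOpen V) (n : ℕ) : IsAffineOpen (𝔛.lvU h n V) := by
  have := Sys.toX_isClosedImmersion 𝔛 h n
  have : AlgebraicGeometry.Surjective (𝔛.toX n) := ⟨Sys.toX_surjective 𝔛 h n⟩
  have : IsClosedImmersion (𝔛.toX n ∣_ 𝔛.lvU h n V) := IsZariskiLocalAtTarget.restrict (by assumption) _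
  have : AlgebraicGeometry.Surjective (𝔛.toX n ∣_ 𝔛.lvU h n V) := IsZariskiLocalAtTarget.restrict (by assumption) _
  have : IsAffine (𝔛.toX n ⁻¹ᵁ 𝔛.lvU h n V : Scheme.{u}) := by
    rw [toX_preimage]
    exact hV
  exact ChevLib.isAffine_of_surjective_universallyClosed (𝔛.toX n ∣_ 𝔛.lvU h n V)

variable (V : (𝔛.X 0).Opens) (hV : IsAffineOpen V)

theorem levelMap_surjective (n : ℕ) (hV : IsAffineOpen V) :
    Function.Surjective ((𝔛.levelMap h n).hom.app (op V)) := by
  have := (h n).1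
  exact FComplLib.surjective_appLE (𝔛.ι n) _ (isAffineOpen_lvU h hV (n + 1)) _ _ (𝔛.lvU_succ h n V).symm

/-- The tower of sections over an affine open. -/
def secSys : FComplLib.RSys.{u} where
  A n := Γ(𝔛.X n, 𝔛.lvU h n V)
  f n := ((𝔛.levelMap h n).hom.app (op V)).hom
  surj n := levelMap_surjective h V n hV

theorem toZero_eq : ∀ n, (secSys h V hV).toZero n =
    ((𝔛.toX n).appLE (𝔛.lvU h n V) (𝔛.lvU h 0 V) (lvU_le_toX h n V)).hom
  | 0 => by
    refine (congrArg CommRingCat.Hom.hom ?_).symm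
    exact (Category.id_comp _).trans ((congrArg (𝔛.X 0).presheaf.map (Subsingleton.elim _ (𝟙 _))).trans ((𝔛.X 0).presheaf.map_id _))
  | n + 1 => by
    show ((secSys h V hV).toZero n).comp ((𝔛.levelMap h n).hom.app (op V)).hom = _
    rw [toZero_eq n]
    exact congrArg CommRingCat.Hom.hom (Scheme.Hom.appLE_comp_appLE (𝔛.toX n) (𝔛.ι n) _ _ _ (𝔛.lvU_le h n V) (lvU_le_toX h n V))

theorem isAdic_secSys (hA : 𝔛.IsAdic) (n : ℕ) : RingHom.ker ((secSys h V hV).f n) =
    RingHom.ker ((secSys h V hV).toZero (n + 1)) ^ (n + 1) := by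
  have := Sys.toX_isClosedImmersion 𝔛 h (n + 1)
  have := (h n).1
  have e := congrArg (fun I : (𝔛.X (n + 1)).IdealSheafData => I.ideal ⟨_, isAffineOpen_lvU h hV (n + 1)⟩) (hA n)
  simp only [Scheme.Hom.ker_apply, Scheme.IdealSheafData.ideal_pow, Pi.pow_apply] at e
  rw [toZero_eq]
  show RingHom.ker ((𝔛.ι n).appLE _ _ _).hom = _
  rw [ker_appLE_of_eq _ _ _ _ (𝔛.lvU_succ h n V), e]
  refine congrArg (· ^ (n + 1)) (ker_appLE_of_eq _ _ _ _ ?_).symm
  rw [toX_preimage]
  show V = (Opens.map (𝔛.gInv h 0)).obj V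
  rw [gInv_zero_aff]
  rfl

include hV in
theorem exists_adic_lim (hloc : 𝔛.IsLocNoethFormal) :
    ∃ I : Ideal (secSys h V hV).lim, IsNoetherianRing (secSys h V hV).lim ∧ IsAdicComplete I (secSys h V hV).lim ∧
      ∀ n, RingHom.ker ((secSys h V hV).proj n) = I ^ (n + 1) := by
  have := hloc.2.2 0
  have := hloc.2.2 1
  have : IsNoetherianRing ((secSys h V hV).A 0) :=
    IsLocallyNoetherian.component_noetherian ⟨_, isAffineOpen_lvU h hV 0⟩
  have : IsNoetherianRing ((secSys h V hV).A 1) :=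
    IsLocallyNoetherian.component_noetherian ⟨_, isAffineOpen_lvU h hV 1⟩
  exact FComplLib.RSys.limit_main (secSys h V hV) (isAdic_secSys h V hV hloc.2.1)
    (IsNoetherian.noetherian _)

section Osh

/-- The projection to a level, on sections. -/
abbrev oProj (n : ℕ) : (𝔛.Osh h).obj.obj (op V) ⟶ (𝔛.levelObj h n).obj.obj (op V) :=
  (𝔛.OshProj h n).hom.app (op V)

theorem oProj_succ (n : ℕ) (b : (𝔛.Osh h).obj.obj (op V)) :
    (𝔛.levelMap h n).hom.app (op V) (oProj h V (n + 1) b) = oProj h V n b :=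
  congr($(congrArg (fun a : 𝔛.Osh h ⟶ 𝔛.levelObj h n => a.hom.app (op V)) (𝔛.OshProj_levelMap h n)) b)

/-- Sections of `O` form the limit. -/
def oLimit :
    IsLimit ((sheafToPresheaf (Opens.grothendieckTopology (𝔛.X 0)) CommRingCat.{u} ⋙
      (evaluation _ CommRingCat.{u}).obj (op V)).mapCone (limit.cone (𝔛.levelRing h))) :=
  isLimitOfPreserves _ (limit.isLimit _)

theorem oSec_ext {b b' : (𝔛.Osh h).obj.obj (op V)} (hb : ∀ n, oProj h V n b = oProj h V n b') : b = b' :=
  Concrete.isLimit_ext _ (oLimit h V) b b' fun ⟨n⟩ => hb n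

end Osh

/-- Sections of `O` to the limit of the levels. -/
def toLim : (𝔛.Osh h).obj.obj (op V) →+* (secSys h V hV).lim where
  toFun b := ⟨fun n => oProj h V n b, fun n => oProj_succ h V n b⟩
  map_one' := Subtype.ext (funext fun _ => map_one _)
  map_mul' a b := Subtype.ext (funext fun _ => map_mul _ a b)
  map_zero' := Subtype.ext (funext fun _ => map_zero _)
  map_add' a b := Subtype.ext (funext fun _ => map_add _ a b)

theorem toLim_bijective : Function.Bijective (toLim h V hV) := by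
  refine ⟨fun a b hab => oSec_ext h V fun n => congrArg (fun x => x.1 n) hab, fun x => ?_⟩
  let D : ℕᵒᵖ ⥤ CommRingCat.{u} := 𝔛.levelRing h ⋙ sheafToPresheaf _ _ ⋙ (evaluation _ _).obj (op V)
  have hst : ∀ n, D.map (homOfLE (Nat.le_succ n)).op = (𝔛.levelMap h n).hom.app (op V) := fun n =>
    congrArg (fun a => a.hom.app (op V)) (Functor.ofOpSequence_map_homOfLE_succ (𝔛.levelMap h) n)
  have key : ∀ d n, D.map (homOfLE (Nat.le_add_right n d)).op (x.1 (n + d)) = x.1 n := by
    intro d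
    induction d with
    | zero =>
      intro n
      exact congr($(D.map_id (op n)) (x.1 n))
    | succ d ih =>
      intro n
      have e : D.map (homOfLE (Nat.le_add_right n (d + 1))).op =
          D.map (homOfLE (Nat.le_succ (n + d))).op ≫ D.map (homOfLE (Nat.le_add_right n d)).op :=
        (congrArg D.map (Subsingleton.elim _ _)).trans (D.map_comp _ _)
      refine (congr($e (x.1 (n + d + 1)))).trans ?_
      refine (congrArg (D.map (homOfLE (Nat.le_add_right n d)).op) ?_).trans (ih n)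
      exact (congr($(hst (n + d)) (x.1 (n + d + 1)))).trans (x.2 (n + d))
  let σ : ((D ⋙ forget CommRingCat.{u})).sections := ⟨fun n => x.1 n.unop, fun {m n} f => by
    obtain ⟨d, hd⟩ := Nat.le.dest (leOfHom f.unop)
    obtain ⟨m⟩ := m
    obtain ⟨n⟩ := n
    obtain rfl : n + d = m := hd
    exact (congrArg (fun p => D.map p (x.1 (n + d))) (Subsingleton.elim f _)).trans (key d n)⟩
  let hc := isLimitOfPreserves (forget CommRingCat.{u}) (oLimit h V)
  exact ⟨(Types.isLimitEquivSections hc).symm σ, Subtype.ext (funext fun n =>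
    Types.isLimitEquivSections_symm_apply hc σ (op n))⟩

end FModLib

end
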