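import Groth.Agent.FModLib.LimPres

/-!
# Sections of a locally presented module are the limit of the sections of its levels
-/

set_option autoImplicit false
set_option linter.style.haveILetI false
set_option maxHeartbeats 800000

universe u

open CategoryTheory CategoryTheory.Limits AlgebraicGeometry TopologicalSpace Opposite FSch

noncomputable section

namespace FModLib

section Lin

variable {X : TopCat.{u}} {O : Sheaf (Opens.grothendieckTopology X) CommRingCat.{u}}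
  {ι κ : Type u} [Fintype ι] [Fintype κ] (M : ModSite.Mod O) {U V : Opens X} (hVU : V ≤ U) (e : ι → MSec M U)

theorem lc_add (b b' : ι → RSec O V) : lc M hVU e (b + b') = lc M hVU e b + lc M hVU e b' :=
  (Finset.sum_congr rfl fun i _ => add_smul (b i) (b' i) (mres M hVU (e i))).trans Finset.sum_add_distrib

theorem lc_rel {r : κ → ι → RSec O U} (hP : LocPres M U e r) (d : κ → RSec O V) :
    lc M hVU e (fun i => ∑ j, d j * rres O hVU (r j i)) = 0 := by
  have hj : ∀ j, lc M hVU e (fun i => rres O hVU (r j i)) = 0 := fun j =>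
    (mres_lc M hVU le_rfl e (r j)).symm.trans ((congrArg (mres M hVU) (hP.rel j)).trans (map_zero _))
  have h1 : lc M hVU e (fun i => ∑ j, d j * rres O hVU (r j i)) =
      ∑ j, d j • lc M hVU e fun i => rres O hVU (r j i) := by
    refine (Finset.sum_congr rfl fun i _ => Finset.sum_smul).trans (Finset.sum_comm.trans ?_)
    refine Finset.sum_congr rfl fun j _ => ?_
    refine Eq.trans ?_ Finset.smul_sum.symm
    exact Finset.sum_congr rfl fun i _ => mul_smul (d j) (rres O hVU (r j i)) (mres M hVU (e i))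
  exact h1.trans (Finset.sum_eq_zero fun j _ => (congrArg (fun z => d j • z) (hj j)).trans (smul_zero _))

end Lin

variable {𝔛 : Sys.{u}} (h : 𝔛.IsFormal) (𝔉 : ModF 𝔛 h) {U V : (𝔛.X 0).Opens} {ι κ : Type u} [Fintype ι] [Fintype κ]

theorem oK_rres (k : ℕ) {W V : (𝔛.X 0).Opens} (hW : W ≤ V) (b : RSec (𝔛.Osh h) V) :
    rres (𝔛.X k).sheaf ((Opens.map (𝔛.gInv h k)).monotone hW) (oK h k V b) = oK h k W (rres (𝔛.Osh h) hW b) :=
  (congr($((𝔛.OshProj h k).hom.naturality (homOfLE hW).op) b)).symm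

theorem oK_surjective (hloc : 𝔛.IsLocNoethFormal) (hV : IsAffineOpen V) (k : ℕ) :
    Function.Surjective (oK hloc.1 k V) := fun c => by
  obtain ⟨x, hx⟩ := (secSys hloc.1 V hV).proj_surjective k c
  obtain ⟨b, rfl⟩ := (toLim_bijective hloc.1 V hV).2 x
  exact ⟨b, hx⟩

theorem oK_sum (k : ℕ) (d : κ → RSec (𝔛.Osh h) V) (t : κ → RSec (𝔛.Osh h) V) :
    oK h k V (∑ j, d j * t j) = ∑ j, oK h k V (d j) * oK h k V (t j) :=
  (map_sum ((𝔛.OshProj h k).hom.app (op V)).hom _ _).trans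
    (Finset.sum_congr rfl fun _ _ => map_mul ((𝔛.OshProj h k).hom.app (op V)).hom _ _)

variable (hloc : 𝔛.IsLocNoethFormal) (𝔊 : ModF 𝔛 hloc.1) (D : PresOn hloc.1 𝔊 U ι κ) (hV : IsAffineOpen V) (hVU : V ≤ U)

include hV in
/-- The generators generate the sections of each level over an affine open. -/
theorem exists_gen (k : ℕ) [Coh.IsQCoh (lev hloc.1 𝔊 k)] (m : MSec (lev hloc.1 𝔊 k) (𝔛.lvU hloc.1 k V)) :
    ∃ b : ι → RSec (𝔛.Osh hloc.1) V, piSec hloc.1 𝔊 k V (lc 𝔊 hVU D.e b) = m := by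
  have hW := (Opens.map (𝔛.gInv hloc.1 k)).monotone hVU
  obtain ⟨c, hc⟩ := exists_comb_of_local (lev hloc.1 𝔊 k) (isAffineOpen_lvU hloc.1 hV k) (ι := PUnit.{u + 1})
    (fun i _ => mres (lev hloc.1 𝔊 k) hW (ek hloc.1 𝔊 k D.e i)) (fun _ => m) fun p hp => by
      obtain ⟨W, hWV, c, hpW, hc⟩ := (D.presLev k).gen _ hW m p hp
      refine ⟨W, hWV, c, hpW, fun _ => hc.trans (Finset.sum_congr rfl fun i _ => ?_)⟩
      exact congrArg (fun z : MSec (lev hloc.1 𝔊 k) W => c i • z) (mres_mres _ hWV hW _).symm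
  choose b hb using fun i => oK_surjective hloc hV k (c i)
  refine ⟨b, (piSec_lc hloc.1 𝔊 k hVU D.e b).trans (Eq.trans ?_ (hc PUnit.unit).symm)⟩
  exact Finset.sum_congr rfl fun i _ =>
    congrArg (fun a : RSec (𝔛.X k).sheaf (𝔛.lvU hloc.1 k V) => a • mres (lev hloc.1 𝔊 k) hW (ek hloc.1 𝔊 k D.e i)) (hb i)

include hV in
/-- The relations generate the relations of each level over an affine open. -/
theorem exists_ker (k : ℕ) (b : ι → RSec (𝔛.Osh hloc.1) V) (hb : piSec hloc.1 𝔊 k V (lc 𝔊 hVU D.e b) = 0) :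
    ∃ d : κ → RSec (𝔛.Osh hloc.1) V, ∀ i,
      oK hloc.1 k V (b i) = oK hloc.1 k V (∑ j, d j * rres (𝔛.Osh hloc.1) hVU (D.r j i)) := by
  have hW := (Opens.map (𝔛.gInv hloc.1 k)).monotone hVU
  have h0 := (piSec_lc hloc.1 𝔊 k hVU D.e b).symm.trans hb
  have : Coh.IsQCoh (Coh.structureModule (𝔛.X k)) := QCohLib.isQCoh_unit
  obtain ⟨c, hc⟩ := exists_comb_of_local (Coh.structureModule (𝔛.X k)) (isAffineOpen_lvU hloc.1 hV k)
    (fun j i => rres (𝔛.X k).sheaf hW (rk hloc.1 k D.r j i)) (fun i => oK hloc.1 k V (b i)) fun p hp => by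
      obtain ⟨W, hWV, d, hpW, hd⟩ := (D.presLev k).ex _ hW _ h0 p hp
      refine ⟨W, hWV, d, hpW, fun i => (hd i).trans (Finset.sum_congr rfl fun j _ => ?_)⟩
      exact congrArg (fun z : RSec (𝔛.X k).sheaf W => d j * z) (rres_rres hWV hW _).symm
  choose d hd using fun j => oK_surjective hloc hV k (c j)
  refine ⟨d, fun i => (hc i).trans (Eq.trans ?_ (oK_sum hloc.1 k d _).symm)⟩
  refine Finset.sum_congr rfl fun j _ => ?_
  exact congrArg₂ (fun a z : RSec (𝔛.X k).sheaf (𝔛.lvU hloc.1 k V) => a * z) (hd j).symm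
    (oK_rres hloc.1 k hVU (D.r j i))

/-- A tuple that is a combination modulo every power of an adic ideal is a combination. -/
theorem exists_comb_of_adic {R : Type u} [CommRing R] [IsNoetherianRing R] (I : Ideal R) [IsAdicComplete I R]
    (r : κ → ι → R) (c : ι → R) (hc : ∀ k, ∃ d : κ → R, ∀ i, c i - ∑ j, d j * r j i ∈ I ^ (k + 1)) :
    ∃ d : κ → R, ∀ i, c i = ∑ j, d j * r j i := by
  classical
  let N : Submodule R (ι → R) := Submodule.span R (Set.range r)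
  have h0 : Submodule.Quotient.mk (p := N) c = 0 := by
    refine (Submodule.mem_bot R).1 ?_
    rw [← Ideal.iInf_pow_smul_eq_bot_of_le_jacobson (M := (ι → R) ⧸ N) I (IsAdicComplete.le_jacobson_bot I),
      Submodule.mem_iInf]
    intro k
    obtain ⟨d, hd⟩ := hc k
    have hy : Submodule.Quotient.mk (p := N) c = Submodule.Quotient.mk (fun i => c i - ∑ j, d j * r j i) := by
      refine (Submodule.Quotient.eq N).2 ?_
      refine (Submodule.mem_span_range_iff_exists_fun R).2 ⟨d, funext fun i => ?_⟩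
      simp [Finset.sum_apply]
    rw [hy]
    have hsum : (fun i => c i - ∑ j, d j * r j i) = ∑ i, (c i - ∑ j, d j * r j i) • (Pi.single i 1 : ι → R) :=
      pi_eq_sum_univ' _
    rw [hsum, ← Submodule.mkQ_apply, map_sum]
    refine Submodule.sum_mem _ fun i _ => ?_
    rw [map_smul]
    exact Submodule.smul_mem_smul (Ideal.pow_le_pow_right (Nat.le_succ k) (hd i)) trivial
  obtain ⟨d, hd⟩ := (Submodule.mem_span_range_iff_exists_fun R).1 ((Submodule.Quotient.mk_eq_zero N).1 h0)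
  exact ⟨d, fun i => (congrFun hd i).symm.trans (by simp [Finset.sum_apply])⟩

include hloc hV in
/-- Exact membership in the relations from membership at every level. -/
theorem exists_rel_of_levels (t : κ → ι → RSec (𝔛.Osh hloc.1) V) (b : ι → RSec (𝔛.Osh hloc.1) V)
    (hb : ∀ k, ∃ d : κ → RSec (𝔛.Osh hloc.1) V, ∀ i,
      oK hloc.1 k V (b i) = oK hloc.1 k V (∑ j, d j * t j i)) :
    ∃ d : κ → RSec (𝔛.Osh hloc.1) V, ∀ i, b i = ∑ j, d j * t j i := by
  obtain ⟨I, hN, hA, hI⟩ := exists_adic_lim hloc.1 V hV hloc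
  let T := toLim hloc.1 V hV
  obtain ⟨d, hd⟩ := exists_comb_of_adic I (fun j i => T (t j i)) (fun i => T (b i)) fun k => by
    obtain ⟨d, hd⟩ := hb k
    refine ⟨fun j => T (d j), fun i => ?_⟩
    rw [← hI k, RingHom.mem_ker, map_sub, sub_eq_zero]
    refine (show _ = oK hloc.1 k V (b i) from rfl).trans ((hd i).trans ?_)
    refine (oK_sum hloc.1 k d fun j => t j i).trans ?_
    rw [map_sum]
    exact Finset.sum_congr rfl fun j _ => (map_mul ((secSys hloc.1 V hV).proj k) (T (d j)) (T (t j i))).symm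
  choose d' hd' using fun j => (toLim_bijective hloc.1 V hV).2 (d j)
  refine ⟨d', fun i => (toLim_bijective hloc.1 V hV).1 ((hd i).trans ?_)⟩
  refine ((map_sum T _ _).trans (Finset.sum_congr rfl fun j _ => ?_)).symm
  exact (map_mul T _ _).trans (congrArg (fun a => a * T (t j i)) (hd' j))

theorem piSec_lc_congr (k : ℕ) {b b' : ι → RSec (𝔛.Osh hloc.1) V} (hbb : ∀ i, oK hloc.1 k V (b i) = oK hloc.1 k V (b' i)) :
    piSec hloc.1 𝔊 k V (lc 𝔊 hVU D.e b) = piSec hloc.1 𝔊 k V (lc 𝔊 hVU D.e b') :=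
  (piSec_lc hloc.1 𝔊 k hVU D.e b).trans ((congrArg
    (lc (lev hloc.1 𝔊 k) ((Opens.map (𝔛.gInv hloc.1 k)).monotone hVU) (ek hloc.1 𝔊 k D.e)) (funext hbb)).trans
      (piSec_lc hloc.1 𝔊 k hVU D.e b').symm)

include D hV hVU in
/-- Compatible sections of the levels come from a section. -/
theorem exists_of_compat [∀ k, Coh.IsQCoh (lev hloc.1 𝔊 k)]
    (s : ∀ k, MSec (lev hloc.1 𝔊 k) (𝔛.lvU hloc.1 k V))
    (hs : ∀ k (x : MSec 𝔊 V), piSec hloc.1 𝔊 (k + 1) V x = s (k + 1) → piSec hloc.1 𝔊 k V x = s k) :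
    ∃ x : MSec 𝔊 V, ∀ k, piSec hloc.1 𝔊 k V x = s k := by
  have step : ∀ k (b : ι → RSec (𝔛.Osh hloc.1) V), piSec hloc.1 𝔊 k V (lc 𝔊 hVU D.e b) = s k →
      ∃ b' : ι → RSec (𝔛.Osh hloc.1) V, piSec hloc.1 𝔊 (k + 1) V (lc 𝔊 hVU D.e b') = s (k + 1) ∧
        ∀ i, oK hloc.1 k V (b' i) = oK hloc.1 k V (b i) := by
    intro k b hb
    obtain ⟨a, ha⟩ := exists_gen hloc 𝔊 D hV hVU (k + 1) (s (k + 1))
    have h1 : piSec hloc.1 𝔊 k V (lc 𝔊 hVU D.e (b - a)) = 0 := by
      have e : lc 𝔊 hVU D.e b = lc 𝔊 hVU D.e (b - a) + lc 𝔊 hVU D.e a :=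
        (congrArg (lc 𝔊 hVU D.e) (sub_add_cancel b a).symm).trans (lc_add 𝔊 hVU D.e _ _)
      have e' : piSec hloc.1 𝔊 k V (lc 𝔊 hVU D.e b) =
          piSec hloc.1 𝔊 k V (lc 𝔊 hVU D.e (b - a)) + piSec hloc.1 𝔊 k V (lc 𝔊 hVU D.e a) :=
        (congrArg (piSec hloc.1 𝔊 k V) e).trans (map_add _ _ _)
      exact left_eq_add.1 ((hs k _ ha).trans (hb.symm.trans (e'.trans (add_comm _ _))))
    obtain ⟨d, hd⟩ := exists_ker hloc 𝔊 D hV hVU k (b - a) h1
    refine ⟨a + fun i => ∑ j, d j * rres (𝔛.Osh hloc.1) hVU (D.r j i), ?_, fun i => ?_⟩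
    · refine Eq.trans (congrArg (piSec hloc.1 𝔊 (k + 1) V) ?_) ha
      exact (lc_add 𝔊 hVU D.e _ _).trans ((congrArg (fun z => lc 𝔊 hVU D.e a + z) (lc_rel 𝔊 hVU D.e D.pres d)).trans (add_zero _))
    · refine (map_add ((𝔛.OshProj hloc.1 k).hom.app (op V)).hom (a i) _).trans ?_
      refine (congrArg (fun z => oK hloc.1 k V (a i) + z) (hd i).symm).trans ?_
      refine (map_add ((𝔛.OshProj hloc.1 k).hom.app (op V)).hom (a i) ((b - a) i)).symm.trans ?_
      exact congrArg (oK hloc.1 k V) (add_sub_cancel (a i) (b i))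
  choose nxt hn1 hn2 using step
  obtain ⟨b0, hb0⟩ := exists_gen hloc 𝔊 D hV hVU 0 (s 0)
  let b : ∀ k, {b : ι → RSec (𝔛.Osh hloc.1) V // piSec hloc.1 𝔊 k V (lc 𝔊 hVU D.e b) = s k} := fun k =>
    Nat.rec ⟨b0, hb0⟩ (fun k bk => ⟨nxt k bk.1 bk.2, hn1 k bk.1 bk.2⟩) k
  have hbs : ∀ k i, oK hloc.1 k V ((b (k + 1)).1 i) = oK hloc.1 k V ((b k).1 i) := fun k i =>
    hn2 k (b k).1 (b k).2 i
  choose c hc using fun i => (toLim_bijective hloc.1 V hV).2 ⟨fun k => oK hloc.1 k V ((b k).1 i),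
    fun k => (oProj_succ hloc.1 V k _).trans (hbs k i)⟩
  refine ⟨lc 𝔊 hVU D.e c, fun k => (piSec_lc_congr hloc 𝔊 D hVU k fun i => ?_).trans (b k).2⟩
  exact congrArg (fun x : (secSys hloc.1 V hV).lim => x.1 k) (hc i)

include D hV hVU in
/-- Local combinations killed on all levels vanish. -/
theorem eq_zero_of_piSec [∀ k, Coh.IsQCoh (lev hloc.1 𝔊 k)] (b : ι → RSec (𝔛.Osh hloc.1) V)
    (hb : ∀ k, piSec hloc.1 𝔊 k V (lc 𝔊 hVU D.e b) = 0) : lc 𝔊 hVU D.e b = 0 := by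
  obtain ⟨d, hd⟩ := exists_rel_of_levels hloc hV (fun j i => rres (𝔛.Osh hloc.1) hVU (D.r j i)) b fun k =>
    exists_ker hloc 𝔊 D hV hVU k b (hb k)
  exact (congrArg (lc 𝔊 hVU D.e) (funext hd)).trans (lc_rel 𝔊 hVU D.e D.pres d)

end FModLib

end
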