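import Groth.Prelude.Def_ModSite
import Mathlib.CategoryTheory.Sites.Over
import Mathlib.CategoryTheory.Filtered.Final
import Mathlib.Algebra.Category.ModuleCat.Sheaf.PullbackFree
import Mathlib.Algebra.Category.ModuleCat.Sheaf.Quasicoherent
import Mathlib.CategoryTheory.Limits.Constructions.Over.Basic

/-!
# Inverse images of modules of finite presentation along maps of ringed spaces
-/

set_option autoImplicit false
set_option maxHeartbeats 1000000

universe u

open CategoryTheory CategoryTheory.Limits TopologicalSpace Opposite

noncomputable section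

namespace FModLib

variable {X Y : TopCat.{u}} (g : X ⟶ Y) {OX : Sheaf (Opens.grothendieckTopology X) CommRingCat.{u}}
  {OY : Sheaf (Opens.grothendieckTopology Y) CommRingCat.{u}}
  (s : OY ⟶ ((Opens.map g).sheafPushforwardContinuous CommRingCat.{u} _ _).obj OX)

/-- The morphism of sites. -/
abbrev rMor : ModSite.RMor OX OY := ModSite.RMor.ofFlat (Opens.map g) s

/-- The functor between the localised sites. -/
abbrev ov (V : Opens Y) : Over V ⥤ Over ((Opens.map g).obj V) := Over.post (Opens.map g)

theorem coverPreserving_ov (V : Opens Y) : CoverPreserving ((Opens.grothendieckTopology Y).over V)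
    ((Opens.grothendieckTopology X).over ((Opens.map g).obj V)) (ov g V) :=
  CoverPreserving.overPost V (coverPreserving_opens_map g)

theorem compatiblePreserving_ov (V : Opens Y) : CompatiblePreserving.{u}
    ((Opens.grothendieckTopology X).over ((Opens.map g).obj V)) (ov g V) := by
  constructor
  intro P Z T x hx Y₁ Y₂ W f₁ f₂ g₁ g₂ hg₁ hg₂ he
  let N : Over V := Over.mk (Y := Y₁.left ⊓ Y₂.left) (homOfLE inf_le_left ≫ Y₁.hom)
  let q₁ : N ⟶ Y₁ := Over.homMk (homOfLE inf_le_left)
  let q₂ : N ⟶ Y₂ := Over.homMk (homOfLE inf_le_right) (Subsingleton.elim _ _)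
  let k : W ⟶ (ov g V).obj N := Over.homMk (homOfLE (le_inf f₁.left.le f₂.left.le)) (Subsingleton.elim _ _)
  have h := congrArg (P.obj.map k.op) (hx q₁ q₂ hg₁ hg₂ (Over.OverMorphism.ext (Subsingleton.elim _ _)))
  change P.obj.map k.op (P.obj.map ((ov g V).map q₁).op (x g₁ hg₁)) =
    P.obj.map k.op (P.obj.map ((ov g V).map q₂).op (x g₂ hg₂)) at h
  rw [← FunctorToTypes.map_comp_apply, ← FunctorToTypes.map_comp_apply] at h
  convert h using 3 <;> exact Quiver.Hom.unop_inj (Over.OverMorphism.ext (Subsingleton.elim _ _))

instance isContinuous_ov (V : Opens Y) : (ov g V).IsContinuous ((Opens.grothendieckTopology Y).over V)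
    ((Opens.grothendieckTopology X).over ((Opens.map g).obj V)) :=
  Functor.isContinuous_of_coverPreserving (compatiblePreserving_ov g V) (coverPreserving_ov g V)

instance final_ov (V : Opens Y) : (ov g V).Final :=
  Functor.final_of_exists_of_isFiltered _
    (fun d => ⟨Over.mk (𝟙 V), ⟨Over.homMk d.hom (Subsingleton.elim _ _)⟩⟩)
    (fun {_ c} _ _ => ⟨c, 𝟙 c, Over.OverMorphism.ext (Subsingleton.elim _ _)⟩)

/-- The structure map over `V`, of sheaves of rings. -/
def sharpV (V : Opens Y) : ModSite.ringSh (OY.over V) ⟶
    ((ov g V).sheafPushforwardContinuous RingCat.{u} _ _).obj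
      (ModSite.ringSh (OX.over ((Opens.map g).obj V))) :=
  ⟨{ app := fun W => (rMor g s).sharpR.hom.app (op W.unop.left)
     naturality := fun _ _ k => (rMor g s).sharpR.hom.naturality k.unop.left.op }⟩

/-- The functors on opens commute. -/
def starIso (V : Opens Y) : Over.star V ⋙ ov g V ≅
    Opens.map g ⋙ Over.star ((Opens.map g).obj V) :=
  NatIso.ofComponents (fun W => Over.isoMk (eqToIso (by
      show (Opens.map g).obj ((Over.star V).obj W).left = ((Over.star ((Opens.map g).obj V)).obj ((Opens.map g).obj W)).left
      simp only [Over.star_obj_left]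
      exact le_antisymm
        (le_inf ((Opens.map g).monotone (prod.fst (X := V) (Y := W)).le)
          ((Opens.map g).monotone (prod.snd (X := V) (Y := W)).le) |>.trans
          ((prod.lift (homOfLE inf_le_left) (homOfLE inf_le_right))).le)
        (le_inf (prod.fst (X := (Opens.map g).obj V) (Y := (Opens.map g).obj W)).le
          (prod.snd (X := (Opens.map g).obj V) (Y := (Opens.map g).obj W)).le |>.trans
          ((Opens.map g).monotone ((prod.lift (homOfLE inf_le_left) (homOfLE inf_le_right) : V ⊓ W ⟶ V ⨯ W)).le))))
      (Subsingleton.elim _ _))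
    (fun _ => Over.OverMorphism.ext (Subsingleton.elim _ _))

/-- Direct image commutes with direct image from the localised sites. -/
def pushExtIso (V : Opens Y) :
    SheafOfModules.pushforward.{u} (SheafOfModules.pushforwardOver (R := ModSite.ringSh OX) ((Opens.map g).obj V)) ⋙
        (rMor g s).push ≅
      SheafOfModules.pushforward.{u} (sharpV g s V) ⋙
        SheafOfModules.pushforward.{u} (SheafOfModules.pushforwardOver (R := ModSite.ringSh OY) V) :=
  haveI := Functor.isContinuous_comp (rMor g s).fn (Over.star ((Opens.map g).obj V))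
    (Opens.grothendieckTopology Y) (Opens.grothendieckTopology X)
    ((Opens.grothendieckTopology X).over ((Opens.map g).obj V))
  haveI := Functor.isContinuous_comp (Over.star V) (ov g V)
    (Opens.grothendieckTopology Y) ((Opens.grothendieckTopology Y).over V)
    ((Opens.grothendieckTopology X).over ((Opens.map g).obj V))
  SheafOfModules.pushforwardComp _ _ ≪≫
    SheafOfModules.pushforwardCongr₂ _ (starIso g V) (by
      apply Sheaf.hom_ext
      ext W x
      change (ModSite.ringSh OX).obj.map _ ((ModSite.ringSh OX).obj.map _ (s.hom.app W x)) =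
        s.hom.app _ (OY.obj.map _ x)
      refine Eq.trans ?_ (congr($(s.hom.naturality _) x)).symm
      exact ((ModSite.ringSh OX).obj.map_comp_apply _ _ _).symm.trans
        (congrArg (fun p => (ModSite.ringSh OX).obj.map p (s.hom.app W x)) (Subsingleton.elim _ _))) ≪≫
    (SheafOfModules.pushforwardComp _ _).symm

/-- Inverse image commutes with restriction. -/
def pullRestrIso (V : Opens Y) :
    (rMor g s).pull ⋙ ModSite.restr OX ((Opens.map g).obj V) ≅
      ModSite.restr OY V ⋙ SheafOfModules.pullback.{u} (sharpV g s V) :=
  (((rMor g s).adj.comp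
        (SheafOfModules.overPushforwardOverAdj (R := ModSite.ringSh OX) ((Opens.map g).obj V))).ofNatIsoRight
      (pushExtIso g s V)).leftAdjointUniq
    ((SheafOfModules.overPushforwardOverAdj (R := ModSite.ringSh OY) V).comp
      (SheafOfModules.pullbackPushforwardAdjunction.{u} (sharpV g s V)))

/-- A presentation on `V` gives one on the preimage. -/
def pullPres (M : ModSite.Mod OY) (V : Opens Y) (P : ((ModSite.restr OY V).obj M).Presentation) :
    ((ModSite.restr OX ((Opens.map g).obj V)).obj ((rMor g s).pull.obj M)).Presentation :=
  haveI : PreservesColimitsOfSize.{u, u} (SheafOfModules.pullback.{u} (sharpV g s V)) :=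
    (SheafOfModules.pullbackPushforwardAdjunction.{u} (sharpV g s V)).leftAdjoint_preservesColimits
  SheafOfModules.Presentation.ofIsIso ((pullRestrIso g s V).app M).inv
    (P.map (SheafOfModules.pullback.{u} (sharpV g s V))
      (asIso (SheafOfModules.pullbackObjUnitToUnit.{u} (sharpV g s V))).symm)

/-- **Inverse images of modules of finite presentation are of finite presentation.** -/
theorem isFP_pull (M : ModSite.Mod OY) [hM : SheafOfModules.IsFinitePresentation (R := ModSite.ringSh OY) M] :
    SheafOfModules.IsFinitePresentation (R := ModSite.ringSh OX) ((rMor g s).pull.obj M) := by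
  obtain ⟨q, hq⟩ := hM.exists_quasicoherentData
  refine SheafOfModules.IsFinitePresentation.mk (R := ModSite.ringSh OX)
    ⟨({ I := q.I
        X := fun i => (Opens.map g).obj (q.X i)
        coversTop := (Opens.coversTop_iff (X : Type u) _).mpr (by
          have h := (Opens.coversTop_iff (Y : Type u) q.X).mp q.coversTop
          refine eq_top_iff.mpr ?_
          intro x _
          obtain ⟨i, hi⟩ := Opens.mem_iSup.mp (h.ge (Set.mem_univ (g x)))
          exact Opens.mem_iSup.mpr ⟨i, hi⟩)
        presentation := fun i => pullPres g s M (q.X i) (q.presentation i) } :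
        SheafOfModules.QuasicoherentData.{u} (R := ModSite.ringSh OX) ((rMor g s).pull.obj M)), ?_⟩
  refine SheafOfModules.QuasicoherentData.IsFinitePresentation.mk (R := ModSite.ringSh OX) fun i => ?_
  have := (hq.isFinite_presentation i).isFiniteType_generators
  have := (hq.isFinite_presentation i).isFiniteType_relations
  exact { isFiniteType_generators := ⟨(inferInstance : Finite (q.presentation i).generators.I)⟩
          isFiniteType_relations := ⟨(inferInstance : Finite (q.presentation i).relations.I)⟩ }

end FModLib

end
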