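import Groth.Agent.FModLib.AdjExt
import Groth.Prelude.Def_FSch5

/-!
# Cohomology on a formal scheme and of the direct image to a scheme
-/

set_option autoImplicit false
set_option linter.style.haveILetI false
set_option maxHeartbeats 1600000

universe u

open CategoryTheory CategoryTheory.Limits AlgebraicGeometry TopologicalSpace Opposite FSch

noncomputable section

namespace FModLib

variable {𝔛 : Sys.{u}} (h : 𝔛.IsFormal) {Y : Scheme.{u}} (p : ∀ n, 𝔛.X n ⟶ Y) (hp : ∀ n, 𝔛.ι n ≫ p (n + 1) = p n)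
  [IsClosedImmersion (p 0)]

/-- Underlying abelian sheaves of direct images. -/
theorem toSheaf_push_map {G G' : ModF 𝔛 h} (φ : G ⟶ G') :
    (SheafOfModules.toSheaf Y.ringCatSheaf).map ((toSchemeMor 𝔛 h p hp).push.map φ) =
      (CohTop.push (p 0).base).map ((SheafOfModules.toSheaf (ModSite.ringSh (𝔛.Osh h))).map φ) := rfl

/-- Cohomology to the direct image on the scheme. -/
def hPushF (G : ModF 𝔛 h) (n : ℕ) : FSch.HF 𝔛 h G n →+ Coh.HH Y ((toSchemeMor 𝔛 h p hp).push.obj G) n :=
  hPushHom (p 0) ((SheafOfModules.toSheaf (ModSite.ringSh (𝔛.Osh h))).obj G) n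

theorem hPushF_natural {G G' : ModF 𝔛 h} (φ : G ⟶ G') (n : ℕ) (z : FSch.HF 𝔛 h G n) :
    hPushF h p hp G' n (Sheaf.H.map ((SheafOfModules.toSheaf (ModSite.ringSh (𝔛.Osh h))).map φ) n z) =
      Sheaf.H.map ((SheafOfModules.toSheaf Y.ringCatSheaf).map ((toSchemeMor 𝔛 h p hp).push.map φ)) n
        (hPushF h p hp G n z) :=
  hPushHom_natural (p 0) ((SheafOfModules.toSheaf (ModSite.ringSh (𝔛.Osh h))).map φ) n z

theorem hPushF_bijective (G : ModF 𝔛 h) (n : ℕ) : Function.Bijective (hPushF h p hp G n) :=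
  hPushHom_bijective (p 0) ((SheafOfModules.toSheaf (ModSite.ringSh (𝔛.Osh h))).obj G) n

end FModLib

end
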