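import Groth.Agent.FModLib.MLMain
import Groth.Agent.FModLib.Levels
import Groth.Agent.QCohLib.AbPush

/-!
# Mittag-Leffler for the cohomology of the levels of a coherent module on a formal scheme
-/

set_option autoImplicit false

universe u

open CategoryTheory CategoryTheory.Limits AlgebraicGeometry TopologicalSpace Opposite FSch

noncomputable section

namespace FModLib

section Homeo

variable {X Y : TopCat.{u}} (f : X ⟶ Y) [IsIso f]

theorem epi_pf_of_isIso {P Q : QCohLib.AbSh X} (φ : P ⟶ Q) [Epi φ] : Epi ((QCohLib.pf f).map φ) := by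
  have h := (TopCat.Presheaf.isLocallySurjective_iff _).mp
    ((Sheaf.isLocallySurjective_iff_epi' (φ := φ)).mpr inferInstance)
  refine (Sheaf.isLocallySurjective_iff_epi' (φ := (QCohLib.pf f).map φ)).mp
    ((TopCat.Presheaf.isLocallySurjective_iff _).mpr ?_)
  intro V t p hp
  have hq : inv f p ∈ (Opens.map f).obj V := by
    show f (inv f p) ∈ V
    rw [show f (inv f p) = (inv f ≫ f) p from rfl, IsIso.inv_hom_id]
    exact hp
  obtain ⟨W, hWV, ⟨s, hs⟩, hqW⟩ := h ((Opens.map f).obj V) t (inv f p) hq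
  let W' : Opens Y := (Opens.map (inv f)).obj W ⊓ V
  have hW' : (Opens.map f).obj W' ≤ W := fun x hx => by
    have hx1 : (f ≫ inv f) x ∈ W := hx.1
    rwa [IsIso.hom_inv_id] at hx1
  refine ⟨W', inf_le_right, ⟨P.obj.map (homOfLE hW').op s, ?_⟩, ⟨hqW, hp⟩⟩
  refine (congr($(φ.hom.naturality (homOfLE hW').op) s)).trans ?_
  refine (congrArg (Q.obj.map (homOfLE hW').op) hs).trans ?_
  exact (Q.obj.map_comp_apply _ _ t).symm

theorem shortExact_pf_of_isIso {S : ShortComplex (QCohLib.AbSh X)} (hS : S.ShortExact) :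
    (S.map (QCohLib.pf f)).ShortExact :=
  { exact := (QCohLib.pf_exact_and_mono hS.exact hS.mono_f).1
    mono_f := (QCohLib.pf_exact_and_mono hS.exact hS.mono_f).2
    epi_g := @epi_pf_of_isIso _ _ f _ _ _ S.g hS.epi_g }

/-- Direct image along the identity. -/
def pfIdIso {X : TopCat.{u}} (g : X ⟶ X) (hg : g = 𝟙 X) : QCohLib.pf g ≅ 𝟭 (QCohLib.AbSh X) := by
  subst hg
  exact Iso.refl _

end Homeo

variable {𝔛 : Sys.{u}} (h : 𝔛.IsFormal)

/-- Modules on a level, as abelian sheaves on the common space. -/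
abbrev phi (k : ℕ) : (𝔛.X k).Modules ⥤ QCohLib.AbSh (𝔛.X 0).toTopCat :=
  (levelMor 𝔛 h k).push ⋙ SheafOfModules.toSheaf (ModSite.ringSh (𝔛.Osh h))

instance additive_phi (k : ℕ) : (phi h k).Additive := by
  refine ⟨fun {M N a b} => ?_⟩
  exact (congrArg ((SheafOfModules.toSheaf _).map) ((levelMor 𝔛 h k).push.map_add (f := a) (g := b))).trans
    (SheafOfModules.toSheaf _).map_add

theorem phi_shortExact (k : ℕ) (S : ShortComplex (𝔛.X k).Modules) (hS : S.ShortExact) :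
    (S.map (phi h k)).ShortExact :=
  shortExact_pf_of_isIso (𝔛.gInv h k) (QCohLib.toAbF_shortExact hS)

theorem gInv_zero : 𝔛.gInv h 0 = 𝟙 _ :=
  (Category.comp_id _).symm.trans (Sys.gInv_toX_base 𝔛 h 0)

variable {A : Type u} [CommRing A] (J : Ideal A) (f : 𝔛 ⟶ spf A J) (hf : IsProperHom f)

/-- The levels, seen on the common space. -/
def real : Real (thick J f hf) where
  Φ := phi h
  additive k := additive_phi h k
  exact := phi_shortExact h
  c k := (Functor.associator _ _ _).symm ≪≫ Functor.isoWhiskerRight (pushIso h k) (SheafOfModules.toSheaf _)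
  β := (show phi h 0 ≅ QCohLib.toAbF (𝔛.X 0) ⋙ QCohLib.pf (𝔛.gInv h 0) from Iso.refl _) ≪≫
    Functor.isoWhiskerLeft (QCohLib.toAbF (𝔛.X 0)) (pfIdIso _ (gInv_zero h)) ≪≫ Functor.rightUnitor _

theorem dd_eq (𝔉 : ModF 𝔛 h) [∀ k, Coh.IsQCoh (lev h 𝔉 k)] (k : ℕ) :
    dd (real h J f hf) (lev h 𝔉) (psi h 𝔉) k = (SheafOfModules.toSheaf _).map (levelTrans 𝔛 h 𝔉 k) := by
  rw [levelTrans_eq, Functor.map_comp, ← res'_eq h 𝔉 J f hf k]
  simp [dd, real]
  rfl

/-- Stabilising images give the Mittag-Leffler property. -/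
theorem isML_of_images (G : ℕᵒᵖ ⥤ AddCommGrpCat.{u})
    (hG : ∀ k, ∃ e, ∀ L, e ≤ L → ∀ y, ∃ y', ARSys.shiftMap G (L + 1) k y' = ARSys.shiftMap G L k y) :
    ARSys.IsML G := by
  intro k
  obtain ⟨e, he⟩ := hG k
  refine ⟨e, fun s hs => ?_⟩
  have hle : ∀ L L', L ≤ L' → imageSubobject (ARSys.shiftMap G L' k) ≤ imageSubobject (ARSys.shiftMap G L k) := by
    intro L L' hL
    have : ARSys.shiftMap G L' k =
        G.map (homOfLE (Nat.add_le_add_left hL k)).op ≫ ARSys.shiftMap G L k :=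
      (congrArg G.map (Subsingleton.elim _ _)).trans (G.map_comp _ _)
    rw [this]
    exact imageSubobject_comp_le _ _
  refine le_antisymm (hle e s hs) ?_
  have hrange : ∀ L, e ≤ L → ∀ y, ∃ y', ARSys.shiftMap G L k y' = ARSys.shiftMap G e k y := by
    intro L hL
    induction L, hL using Nat.le_induction with
    | base => exact fun y => ⟨y, rfl⟩
    | succ L hL ih =>
      intro y
      obtain ⟨y₁, hy₁⟩ := ih y
      obtain ⟨y₂, hy₂⟩ := he L hL y₁
      exact ⟨y₂, hy₂.trans hy₁⟩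
  have h0 : ARSys.shiftMap G s k ≫ cokernel.π (imageSubobject (ARSys.shiftMap G s k)).arrow = 0 :=
    (congrArg (fun q => q ≫ cokernel.π (imageSubobject (ARSys.shiftMap G s k)).arrow)
      (imageSubobject_arrow_comp (ARSys.shiftMap G s k)).symm).trans
      ((Category.assoc _ _ _).trans ((congrArg (fun q => _ ≫ q) (cokernel.condition _)).trans comp_zero))
  have hz : ARSys.shiftMap G e k ≫ cokernel.π (imageSubobject (ARSys.shiftMap G s k)).arrow = 0 := by
    ext y
    obtain ⟨y', hy'⟩ := hrange s hs y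
    exact (congrArg (cokernel.π (imageSubobject (ARSys.shiftMap G s k)).arrow) hy').symm.trans congr($h0 y')
  exact imageSubobject_le _ (Abelian.monoLift _ _ hz) (Abelian.monoLift_comp _ _ _)

theorem shiftMap_apply (𝔉 : ModF 𝔛 h) [∀ k, Coh.IsQCoh (lev h 𝔉 k)] (n k : ℕ) :
    ∀ (L : ℕ) (y : FSch.HF 𝔛 h ((levelMor 𝔛 h (k + L)).push.obj (lev h 𝔉 (k + L))) n),
      ARSys.shiftMap (Functor.ofOpSequence
        (X := fun k => AddCommGrpCat.of (FSch.HF 𝔛 h ((levelMor 𝔛 h k).push.obj (lev h 𝔉 k)) n))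
        (fun k => AddCommGrpCat.ofHom (Sheaf.H.map ((SheafOfModules.toSheaf _).map (levelTrans 𝔛 h 𝔉 k)) n))) L k y =
        Sheaf.H.map (down (real h J f hf) (lev h 𝔉) (psi h 𝔉) k L) n y := by
  intro L
  induction L with
  | zero =>
    intro y
    rw [show ARSys.shiftMap _ 0 k = 𝟙 _ from CategoryTheory.Functor.map_id _ _]
    exact (Sheaf.H.map_id_apply y).symm
  | succ L ih =>
    intro y
    refine Eq.trans ?_ ((congrArg (fun e => Sheaf.H.map e n y) (show
        (SheafOfModules.toSheaf _).map (levelTrans 𝔛 h 𝔉 (k + L)) ≫ down (real h J f hf) (lev h 𝔉) (psi h 𝔉) k L =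
          down (real h J f hf) (lev h 𝔉) (psi h 𝔉) k (L + 1) by
      rw [← dd_eq h J f hf 𝔉 (k + L)]
      rfl)))
    refine Eq.trans ?_ (hm_comp (T := thick J f hf) n _ _ y)
    refine Eq.trans ?_ (ih _)
    let G : ℕᵒᵖ ⥤ AddCommGrpCat.{u} := Functor.ofOpSequence
      (X := fun k => AddCommGrpCat.of (FSch.HF 𝔛 h ((levelMor 𝔛 h k).push.obj (lev h 𝔉 k)) n))
      (fun k => AddCommGrpCat.ofHom (Sheaf.H.map ((SheafOfModules.toSheaf _).map (levelTrans 𝔛 h 𝔉 k)) n))
    have e : ARSys.shiftMap G (L + 1) k = G.map (homOfLE (Nat.le_add_right (k + L) 1)).op ≫ ARSys.shiftMap G L k :=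
      (congrArg G.map (Subsingleton.elim _ _)).trans (G.map_comp _ _)
    refine (congr($e y)).trans ?_
    refine congrArg (ARSys.shiftMap G L k) ?_
    exact congr($(Functor.ofOpSequence_map_homOfLE_succ
      (X := fun k => AddCommGrpCat.of (FSch.HF 𝔛 h ((levelMor 𝔛 h k).push.obj (lev h 𝔉 k)) n))
      (fun k => AddCommGrpCat.ofHom (Sheaf.H.map ((SheafOfModules.toSheaf _).map (levelTrans 𝔛 h 𝔉 k)) n)) (k + L)) y)

include hf in
/-- **Mittag-Leffler.** -/
theorem isML_HF [IsNoetherianRing A] (𝔉 : ModF 𝔛 h) (h𝔉 : IsCohF 𝔛 h 𝔉) (n : ℕ) :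
    ARSys.IsML (Functor.ofOpSequence
      (X := fun k => AddCommGrpCat.of (FSch.HF 𝔛 h ((levelMor 𝔛 h k).push.obj (lev h 𝔉 k)) n))
      (fun k => AddCommGrpCat.ofHom (Sheaf.H.map ((SheafOfModules.toSheaf _).map (levelTrans 𝔛 h 𝔉 k)) n))) := by
  have : ∀ k, Coh.IsQCoh (lev h 𝔉 k) := fun k => (isCoh_lev h 𝔉 h𝔉 k).1
  refine isML_of_images _ fun k => ?_
  obtain ⟨r, a, hspan⟩ := Submodule.fg_iff_exists_fin_generating_family.1 (IsNoetherian.noetherian J)
  haveI : ∀ k, Coh.IsQCoh (X := (thick J f hf).X k) (lev h 𝔉 k) := this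
  obtain ⟨e, he⟩ := exists_stable (T := thick J f hf) (real h J f hf) (lev h 𝔉) (psi h 𝔉) n a
    (fun i => hspan ▸ Submodule.subset_span ⟨i, rfl⟩) (isCoh_lev h 𝔉 h𝔉 0) hspan k
  refine ⟨e, fun L hL y => ?_⟩
  obtain ⟨y', hy'⟩ := he L hL y
  exact ⟨y', (shiftMap_apply h J f hf 𝔉 n k (L + 1) y').trans (hy'.trans (shiftMap_apply h J f hf 𝔉 n k L y).symm)⟩

end FModLib

end
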