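import Groth.Agent.ModSiteLib.PullFlat
import Groth.Agent.FModLib.PullFP

/-!
# Local presentations by sections, and their inverse images
-/

set_option autoImplicit false
set_option linter.style.haveILetI false

universe u

open CategoryTheory CategoryTheory.Limits TopologicalSpace Opposite

noncomputable section

namespace FModLib

variable {X : TopCat.{u}} {O : Sheaf (Opens.grothendieckTopology X) CommRingCat.{u}}

/-- Sections of a module. -/
abbrev MSec (M : ModSite.Mod O) (V : Opens X) : Type u := M.val.obj (op V)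

/-- Sections of the ring. -/
abbrev RSec (O : Sheaf (Opens.grothendieckTopology X) CommRingCat.{u}) (V : Opens X) : Type u := O.obj.obj (op V)

/-- Restriction of sections. -/
abbrev mres (M : ModSite.Mod O) {W V : Opens X} (h : W ≤ V) (s : MSec M V) : MSec M W :=
  M.val.map (homOfLE h).op s

/-- Restriction of scalars. -/
abbrev rres (O : Sheaf (Opens.grothendieckTopology X) CommRingCat.{u}) {W V : Opens X} (h : W ≤ V)
    (s : RSec O V) : RSec O W :=
  O.obj.map (homOfLE h).op s

/-- A linear combination over the smaller open. -/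
def lc {ι : Type u} [Fintype ι] (M : ModSite.Mod O) {U V : Opens X} (h : V ≤ U) (e : ι → MSec M U)
    (c : ι → RSec O V) : MSec M V :=
  ∑ i, (c i • mres M h (e i) : MSec M V)

/-- `M` is presented on `U` by the sections `e` and the relations `r`. -/
structure LocPres {ι κ : Type u} [Fintype ι] [Fintype κ] (M : ModSite.Mod O) (U : Opens X)
    (e : ι → MSec M U) (r : κ → ι → RSec O U) : Prop where
  rel : ∀ j, lc M le_rfl e (r j) = 0
  gen : ∀ (V : Opens X) (hV : V ≤ U) (s : MSec M V), ∀ p ∈ V,
    ∃ (W : Opens X) (hW : W ≤ V) (c : ι → RSec O W), p ∈ W ∧ mres M hW s = lc M (hW.trans hV) e c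
  ex : ∀ (V : Opens X) (hV : V ≤ U) (c : ι → RSec O V), lc M hV e c = 0 → ∀ p ∈ V,
    ∃ (W : Opens X) (hW : W ≤ V) (d : κ → RSec O W), p ∈ W ∧
      ∀ i, rres O hW (c i) = ∑ j, d j * rres O (hW.trans hV) (r j i)

section Over

variable {U : Opens X}

/-- The top object. -/
abbrev oTop (U : Opens X) : Over U := Over.mk (𝟙 U)

/-- An open inside `U`, as an object. -/
abbrev oMk {V : Opens X} (h : V ≤ U) : Over U := Over.mk (homOfLE h)

/-- The value at `1` on the top. -/
def ev {N : ModSite.Mod (O.over U)} (m : ModSite.unit (O.over U) ⟶ N) : N.val.obj (op (oTop U)) :=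
  m.val.app (op (oTop U)) (1 : (O.over U).obj.obj (op (oTop U)))

/-- Restriction from the top. -/
def tres (N : ModSite.Mod (O.over U)) (Z : Over U) (s : N.val.obj (op (oTop U))) : N.val.obj (op Z) :=
  N.val.map (Over.homMk Z.hom : Z ⟶ oTop U).op s

theorem app_eq_smul {N : ModSite.Mod (O.over U)} (m : ModSite.unit (O.over U) ⟶ N) (Z : Over U)
    (c : (O.over U).obj.obj (op Z)) :
    m.val.app (op Z) c = (c • tres N Z (ev m) : N.val.obj (op Z)) := by
  have h1 : m.val.app (op Z) (c • (1 : (O.over U).obj.obj (op Z))) =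
      c • m.val.app (op Z) (1 : (O.over U).obj.obj (op Z)) := (m.val.app (op Z)).hom.map_smul c _
  have h2 : tres N Z (ev m) =
      m.val.app (op Z) (1 : (O.over U).obj.obj (op Z)) := by
    refine (PresheafOfModules.naturality_apply m.val (Over.homMk Z.hom : Z ⟶ oTop U).op
      (1 : (O.over U).obj.obj (op (oTop U)))).symm.trans ?_
    exact congrArg (m.val.app (op Z)) (((O.over U).obj.map (Over.homMk Z.hom : Z ⟶ oTop U).op).hom.map_one)
  rw [h2]
  refine Eq.trans ?_ h1
  exact congrArg (m.val.app (op Z)) (mul_one c).symm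

variable {ι κ : Type u} [Fintype ι] [Fintype κ]

/-- Coordinates. -/
def coord (i : ι) : SheafOfModules.free (R := ModSite.ringSh (O.over U)) ι ⟶ ModSite.unit (O.over U) :=
  haveI := Classical.decEq ι
  Cofan.IsColimit.desc (SheafOfModules.isColimitFreeCofan ι) fun k => if k = i then 𝟙 _ else 0

theorem ιFree_coord [DecidableEq ι] (k i : ι) :
    SheafOfModules.ιFree (R := ModSite.ringSh (O.over U)) k ≫ coord (O := O) (U := U) i =
      if k = i then 𝟙 _ else 0 := by
  refine (Cofan.IsColimit.fac (SheafOfModules.isColimitFreeCofan ι) _ k).trans ?_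
  congr

theorem sum_coord :
    ∑ i, coord (O := O) (U := U) i ≫ SheafOfModules.ιFree (R := ModSite.ringSh (O.over U)) i =
      𝟙 (SheafOfModules.free (R := ModSite.ringSh (O.over U)) ι) := by
  classical
  refine Cofan.IsColimit.hom_ext (SheafOfModules.isColimitFreeCofan ι) _ _ fun k => ?_
  show SheafOfModules.ιFree k ≫ _ = SheafOfModules.ιFree k ≫ 𝟙 _
  rw [Preadditive.comp_sum, Finset.sum_eq_single k]
  · rw [← Category.assoc, ιFree_coord, if_pos rfl, Category.id_comp, Category.comp_id]
  · intro i _ hi
    rw [← Category.assoc, ιFree_coord, if_neg (Ne.symm hi), zero_comp]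
  · exact fun h => absurd (Finset.mem_univ k) h

variable {N : ModSite.Mod (O.over U)}

theorem app_sum {P Q : ModSite.Mod (O.over U)} (f : ι → (P ⟶ Q)) (Z : Over U) (y : P.val.obj (op Z)) :
    (∑ i, f i).val.app (op Z) y = ∑ i, (f i).val.app (op Z) y :=
  map_sum (AddMonoidHom.mk' (fun g : P ⟶ Q => g.val.app (op Z) y) fun _ _ => rfl) f Finset.univ

theorem app_decomp (π : SheafOfModules.free (R := ModSite.ringSh (O.over U)) ι ⟶ N) (Z : Over U)
    (y : (SheafOfModules.free (R := ModSite.ringSh (O.over U)) ι).val.obj (op Z)) :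
    π.val.app (op Z) y = ∑ i, ((coord (O := O) (U := U) i).val.app (op Z) y •
      tres N Z (ev (SheafOfModules.ιFree i ≫ π)) : N.val.obj (op Z)) := by
  have e : π = ∑ i, coord (O := O) (U := U) i ≫ SheafOfModules.ιFree i ≫ π := by
    refine (Category.id_comp π).symm.trans ?_
    rw [← sum_coord, Preadditive.sum_comp]
    exact Finset.sum_congr rfl fun i _ => Category.assoc _ _ _
  refine (congrArg (fun g : SheafOfModules.free ι ⟶ N => g.val.app (op Z) y) e).trans ?_
  rw [app_sum]
  exact Finset.sum_congr rfl fun i _ => app_eq_smul (SheafOfModules.ιFree i ≫ π) Z _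

/-- A finite combination in a free module. -/
def comb (Z : Over U) (c : ι → (O.over U).obj.obj (op Z)) :
    (SheafOfModules.free (R := ModSite.ringSh (O.over U)) ι).val.obj (op Z) :=
  ∑ k, (SheafOfModules.ιFree (R := ModSite.ringSh (O.over U)) k).val.app (op Z) (c k)

theorem coord_comb (Z : Over U) (c : ι → (O.over U).obj.obj (op Z)) (i : ι) :
    (coord (O := O) (U := U) i).val.app (op Z) (comb Z c) = c i := by
  classical
  rw [comb, map_sum, Finset.sum_eq_single i]
  · exact congr($(congrArg (fun g : ModSite.unit (O.over U) ⟶ _ => g.val.app (op Z))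
      ((ιFree_coord i i).trans (if_pos rfl))) (c i))
  · intro k _ hk
    exact congr($(congrArg (fun g : ModSite.unit (O.over U) ⟶ _ => g.val.app (op Z))
      ((ιFree_coord k i).trans (if_neg hk))) (c k))
  · exact fun h => absurd (Finset.mem_univ i) h

open Groth.Agent.ModSiteLib in
theorem exists_of_loc {Z : Over U} {P : ∀ ⦃Z' : Over U⦄, (Z' ⟶ Z) → Prop}
    (h : SetPull.Loc ((Opens.grothendieckTopology X).over U) Z P) (p : X) (hp : p ∈ Z.left) :
    ∃ (Z' : Over U) (g : Z' ⟶ Z), P g ∧ p ∈ Z'.left := by
  obtain ⟨S, hS, hP⟩ := h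
  rw [GrothendieckTopology.mem_over_iff] at hS
  obtain ⟨W, f, hf, hpW⟩ := hS p hp
  rw [Sieve.overEquiv_iff] at hf
  exact ⟨_, _, hP _ hf, hpW⟩

variable (M : ModSite.Mod O) (π : SheafOfModules.free (R := ModSite.ringSh (O.over U)) ι ⟶ (ModSite.restr O U).obj M)
  (ψ : SheafOfModules.free (R := ModSite.ringSh (O.over U)) κ ⟶ SheafOfModules.free (R := ModSite.ringSh (O.over U)) ι)

/-- The generators of an exact sequence on the localised site. -/
def genSec (i : ι) : MSec M U := ev (SheafOfModules.ιFree i ≫ π)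

/-- Its relations. -/
def relSec (j : κ) (i : ι) : RSec O U := ev (SheafOfModules.ιFree j ≫ ψ ≫ coord (O := O) (U := U) i)

theorem app_π (Z : Over U) (y : (SheafOfModules.free (R := ModSite.ringSh (O.over U)) ι).val.obj (op Z)) :
    π.val.app (op Z) y = (lc M Z.hom.le (genSec M π) fun i => (coord (O := O) (U := U) i).val.app (op Z) y) :=
  app_decomp π Z y

open Groth.Agent.ModSiteLib in
/-- **An exact sequence of free modules on the localised site is a presentation by sections.** -/
theorem locPres_of_exact [Epi π] (w : ψ ≫ π = 0) (hex : Epi (kernel.lift π ψ w)) :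
    LocPres M U (genSec M π) (relSec ψ) where
  rel j := by
    have h := app_π M π (oTop U) (ψ.val.app (op (oTop U)) ((SheafOfModules.ιFree (R := ModSite.ringSh (O.over U)) j).val.app
      (op (oTop U)) (1 : (O.over U).obj.obj (op (oTop U)))))
    refine Eq.trans ?_ (h.symm.trans ?_)
    · rfl
    · exact congr($(congrArg (fun g : SheafOfModules.free (R := ModSite.ringSh (O.over U)) κ ⟶ _ =>
        g.val.app (op (oTop U))) w) _)
  gen V hV s p hp := by
    obtain ⟨Z', g, ⟨y, hy⟩, hpZ⟩ := exists_of_loc (_root_.ModSiteLib.loc_of_epi π (V := oMk hV) s) p hp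
    refine ⟨Z'.left, g.left.le, fun i => (coord (O := O) (U := U) i).val.app (op Z') y, hpZ, ?_⟩
    refine hy.symm.trans ?_
    exact app_π M π Z' y
  ex V hV c hc p hp := by
    have h0 : π.val.app (op (oMk hV)) (comb (oMk hV) c) = 0 := by
      refine (app_π M π (oMk hV) (comb (oMk hV) c)).trans (Eq.trans ?_ hc)
      exact congrArg (lc M hV (genSec M π)) (funext fun i => coord_comb (oMk hV) c i)
    obtain ⟨q, hq⟩ := _root_.ModSiteLib.exists_kernel_section π (oMk hV) (comb (oMk hV) c) h0
    obtain ⟨Z', g, ⟨z, hz⟩, hpZ⟩ := exists_of_loc (_root_.ModSiteLib.loc_of_epi (kernel.lift π ψ w) (V := oMk hV) q) p hp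
    refine ⟨Z'.left, g.left.le, fun j => (coord (O := O) (U := U) j).val.app (op Z') z, hpZ, fun i => ?_⟩
    have h1 : ψ.val.app (op Z') z =
        (SheafOfModules.free (R := ModSite.ringSh (O.over U)) ι).val.map g.op (comb (oMk hV) c) := by
      refine (congr($(congrArg (fun f : SheafOfModules.free (R := ModSite.ringSh (O.over U)) κ ⟶ _ =>
        f.val.app (op Z')) (kernel.lift_ι π ψ w).symm) z)).trans ?_
      refine (congrArg ((kernel.ι π).val.app (op Z')) hz).trans ?_
      exact (PresheafOfModules.naturality_apply (kernel.ι π).val g.op q).trans (congrArg _ hq)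
    have h2 := congrArg ((coord (O := O) (U := U) i).val.app (op Z')) h1
    refine Eq.trans ?_ (h2.symm.trans ?_)
    · refine Eq.trans ?_ (PresheafOfModules.naturality_apply (coord (O := O) (U := U) i).val g.op (comb (oMk hV) c)).symm
      exact congrArg (fun x => (O.over U).obj.map g.op x) (coord_comb (oMk hV) c i).symm
    · exact app_decomp (ψ ≫ coord (O := O) (U := U) i) Z' z

end Over

end FModLib

end
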