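import Groth.Agent.FComplLib.Completion
import Groth.Agent.FComplLib.Spf
import Groth.Prelude.Def_FSch4

/-!
# The completion of a proper scheme over `A` maps properly to `Spf A`
-/

set_option autoImplicit false
universe u

open CategoryTheory CategoryTheory.Limits AlgebraicGeometry FSch

noncomputable section

namespace FModLib

variable {A : Type u} [CommRing A] (I : Ideal A) {X : Scheme.{u}} (g : X ⟶ Spec (CommRingCat.of A))
  (𝓚 : X.IdealSheafData) (h𝓚 : 𝓚 = (FSch.idealSpec A I).comap g)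

instance isClosedImmersion_specQuot (k : ℕ) : IsClosedImmersion (CohB1.specQuot I k) :=
  IsClosedImmersion.spec_of_surjective _ Ideal.Quotient.mk_surjective

theorem ker_specQuot (k : ℕ) : (CohB1.specQuot I k).ker = (FSch.idealSpec A I) ^ (k + 1) := by
  rw [FComplLib.idealSpec_eq, ← FComplLib.specIdeal_pow]
  refine (FComplLib.ker_specMap _).trans ?_
  rw [Ideal.mk_ker]

include h𝓚 in
theorem comap_ker_specQuot (k : ℕ) : (CohB1.specQuot I k).ker.comap g = (completionToX X 𝓚 k).ker := by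
  rw [ker_specQuot, FComplLib.comap_pow_succ, ← h𝓚]
  exact (Scheme.IdealSheafData.ker_subschemeι _).symm

include h𝓚 in
theorem ker_le_comp (k : ℕ) : (CohB1.specQuot I k).ker ≤ (completionToX X 𝓚 k ≫ g).ker := by
  have e : (completionToX X 𝓚 k ≫ g).ker = (𝓚 ^ (k + 1)).map g := rfl
  rw [e, Scheme.IdealSheafData.le_map_iff_comap_le]
  exact ((comap_ker_specQuot I g 𝓚 h𝓚 k).trans (Scheme.IdealSheafData.ker_subschemeι _)).le

/-- The levels of the completion over the quotients by the powers of `I`. -/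
def toQuot (k : ℕ) : (completionAlong X 𝓚).X k ⟶ Spec (CommRingCat.of (A ⧸ I ^ (k + 1))) :=
  IsClosedImmersion.lift (CohB1.specQuot I k) (completionToX X 𝓚 k ≫ g) (ker_le_comp I g 𝓚 h𝓚 k)

theorem toQuot_specQuot (k : ℕ) :
    toQuot I g 𝓚 h𝓚 k ≫ CohB1.specQuot I k = completionToX X 𝓚 k ≫ g :=
  IsClosedImmersion.lift_fac _ _ _

theorem isPullback_toQuot (k : ℕ) :
    IsPullback (completionToX X 𝓚 k) (toQuot I g 𝓚 h𝓚 k) g (CohB1.specQuot I k) :=
  isPullback_of_isClosedImmersion _ _ _ _ (toQuot_specQuot I g 𝓚 h𝓚 k).symm (comap_ker_specQuot I g 𝓚 h𝓚 k)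

/-- The morphism to the formal spectrum. -/
def toSpf : completionAlong X 𝓚 ⟶ spf A I :=
  (⟨toQuot I g 𝓚 h𝓚, fun n => by
    refine (cancel_mono (CohB1.specQuot I (n + 1))).1 ?_
    refine (Category.assoc _ _ _).trans ((congrArg (fun q => toQuot I g 𝓚 h𝓚 n ≫ q) (CohB1.specQuotTrans_specQuot I n)).trans ?_)
    refine (toQuot_specQuot I g 𝓚 h𝓚 n).trans (Eq.trans ?_ (Category.assoc _ _ _).symm)
    refine Eq.trans ?_ (congrArg (fun q => (completionAlong X 𝓚).ι n ≫ q) (toQuot_specQuot I g 𝓚 h𝓚 (n + 1))).symm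
    exact ((Category.assoc _ _ _).symm.trans (congrArg (fun q => q ≫ g)
      (Scheme.IdealSheafData.inclusion_subschemeι (pow_succ_le X 𝓚 n)))).symm⟩ : FSch.Hom _ _)

theorem isProperHom_toSpf [IsProper g] : IsProperHom (toSpf I g 𝓚 h𝓚) := by
  refine ⟨fun n => ?_, MorphismProperty.of_isPullback (P := @IsProper) (isPullback_toQuot I g 𝓚 h𝓚 0) ‹IsProper g›⟩
  refine IsPullback.of_right ?_ ((toSpf I g 𝓚 h𝓚 : FSch.Hom _ _).comm n).symm
    (isPullback_toQuot I g 𝓚 h𝓚 (n + 1))
  have e1 : (completionAlong X 𝓚).ι n ≫ completionToX X 𝓚 (n + 1) = completionToX X 𝓚 n :=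
    Scheme.IdealSheafData.inclusion_subschemeι _
  have e2 : (spf A I).ι n ≫ CohB1.specQuot I (n + 1) = CohB1.specQuot I n := CohB1.specQuotTrans_specQuot I n
  rw [e1, e2]
  exact isPullback_toQuot I g 𝓚 h𝓚 n

end FModLib

end
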