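import Groth.Agent.FModLib.LimTower
import Groth.Agent.FModLib.Formal

/-!
# Cohomology of a coherent module and of its levels
-/

set_option autoImplicit false
set_option linter.style.haveILetI false
set_option maxHeartbeats 800000

universe u

open CategoryTheory CategoryTheory.Limits AlgebraicGeometry TopologicalSpace Opposite FSch

noncomputable section

namespace FModLib

variable {𝔛 : Sys.{u}} (hloc : 𝔛.IsLocNoethFormal) {A : Type u} [CommRing A] (J : Ideal A)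
  (f : 𝔛 ⟶ spf A J) (hf : IsProperHom f) (𝔊 : ModF 𝔛 hloc.1)

include hf in
theorem stable_levels [IsNoetherianRing A] (h𝔊 : IsCohF 𝔛 hloc.1 𝔊) (T : QCohLib.AbSh (𝔛.X 0).toTopCat)
    (hT : T = (constantSheaf (Opens.grothendieckTopology (𝔛.X 0)) AddCommGrpCat.{u}).obj (AddCommGrpCat.of (ULift ℤ)))
    (n : ℕ) :
    Stable (M := fun k => Abelian.Ext T (towG hloc 𝔊 k) n)
      (tE (G := towG hloc 𝔊) (t := towT hloc 𝔊) T n) := by
  subst hT
  have hq : ∀ k, Coh.IsQCoh (lev hloc.1 𝔊 k) := fun k => (isCoh_lev hloc.1 𝔊 h𝔊 k).1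
  intro k
  obtain ⟨r, a, hspan⟩ := Submodule.fg_iff_exists_fin_generating_family.1 (IsNoetherian.noetherian J)
  haveI : ∀ k, Coh.IsQCoh (X := (thick J f hf).X k) (lev hloc.1 𝔊 k) := hq
  obtain ⟨e, he⟩ := exists_stable (T := thick J f hf) (real hloc.1 J f hf) (lev hloc.1 𝔊) (psi hloc.1 𝔊) n a
    (fun i => hspan ▸ Submodule.subset_span ⟨i, rfl⟩) (isCoh_lev hloc.1 𝔊 h𝔊 0) hspan k
  refine ⟨e, fun L hL y => ?_⟩
  let T := (constantSheaf (Opens.grothendieckTopology (𝔛.X 0)) AddCommGrpCat.{u}).obj (AddCommGrpCat.of (ULift ℤ))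
  have key : ∀ (L : ℕ) (y : Abelian.Ext T (towG hloc 𝔊 (k + L)) n),
      comp (M := fun k => Abelian.Ext T (towG hloc 𝔊 k) n) (tE (G := towG hloc 𝔊) (t := towT hloc 𝔊) T n) k L y =
      Sheaf.H.map (down (real hloc.1 J f hf) (lev hloc.1 𝔊) (psi hloc.1 𝔊) k L) n y := by
    intro L
    induction L with
    | zero => exact fun y => (Sheaf.H.map_id_apply y).symm
    | succ L ih =>
      intro y
      refine (ih _).trans ?_
      refine (hm_comp (T := thick J f hf) n (towT hloc 𝔊 (k + L)) _ y).trans ?_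
      exact congrArg (fun e => Sheaf.H.map e n y) (congrArg (fun q => q ≫ down (real hloc.1 J f hf) (lev hloc.1 𝔊)
        (psi hloc.1 𝔊) k L) (dd_eq hloc.1 J f hf 𝔊 (k + L)).symm)
  obtain ⟨y', hy'⟩ := he L hL y
  exact ⟨y', (key (L + 1) y').trans (hy'.trans (key L y).symm)⟩

include hf in
/-- **Cohomology is the limit of the cohomology of the levels.** -/
theorem hF_bijective [IsNoetherianRing A] (h𝔊 : IsCohF 𝔛 hloc.1 𝔊) (n : ℕ) :
    (∀ x : FSch.HF 𝔛 hloc.1 𝔊 n, (∀ k, Sheaf.H.map (towP hloc 𝔊 k) n x = 0) → x = 0) ∧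
    (∀ y : ∀ k, FSch.HF 𝔛 hloc.1 ((levelMor 𝔛 hloc.1 k).push.obj (lev hloc.1 𝔊 k)) n,
      (∀ k, Sheaf.H.map (towT hloc 𝔊 k) n (y (k + 1)) = y k) →
      ∃ x : FSch.HF 𝔛 hloc.1 𝔊 n, ∀ k, Sheaf.H.map (towP hloc 𝔊 k) n x = y k) :=
  ext_lim_bijective (towP_towT hloc 𝔊) (bTower hloc 𝔊 h𝔊) _
    (fun m => stable_levels hloc J f hf 𝔊 h𝔊 _ rfl m) n

end FModLib

end
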