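import Groth.Agent.FModLib.SchComp
import Groth.Agent.FModLib.CompSys
import Groth.Agent.FModLib.HPush
import Groth.Agent.FModLib.LimCoh
import Groth.Agent.FormalCohLib.ClosedAlg

/-!
# Cohomology of the completion of a coherent module on a proper scheme
-/

set_option autoImplicit false
set_option linter.style.haveILetI false
set_option maxHeartbeats 800000

universe u

open CategoryTheory CategoryTheory.Limits AlgebraicGeometry TopologicalSpace Opposite FSch

noncomputable section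

namespace FModLib

variable {A : Type u} [CommRing A] [IsNoetherianRing A] (I : Ideal A) (X : Scheme.{u})
  [X.Over (Spec (CommRingCat.of A))] [IsProper (X ↘ Spec (CommRingCat.of A))]
  (𝓚 : X.IdealSheafData) (h𝓚 : 𝓚 = (FSch.idealSpec A I).comap (X ↘ Spec (CommRingCat.of A)))
  (hX : (completionAlong X 𝓚).IsFormal) (F : X.Modules)

include h𝓚 in
theorem ker_le_rho (k : ℕ) (W : X.affineOpens) :
    (completionToX X 𝓚 k).ker.ideal W ≤ (I ^ (k + 1)).map (FormalLib.rhoA A W.1) := by
  let sq := isPullback_toQuot I (X ↘ Spec (CommRingCat.of A)) 𝓚 h𝓚 k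
  have he : (completionToX X 𝓚 k).ker = FormalCohLib.idSheaf I ^ (k + 1) := by
    rw [← FormalCohLib.ker_thickι I (X := X) k, ← sq.isoPullback_hom_fst]
    exact Scheme.Hom.ker_comp_of_isIso _ _
  rw [he, Scheme.IdealSheafData.ideal_pow]
  exact (Ideal.map_pow _ I (k + 1)).ge

include h𝓚 in
theorem toGlobal_zero (k : ℕ) (b : A) (hb : b ∈ I ^ (k + 1)) :
    Coh.toGlobal (completionToX X 𝓚 k ≫ (X ↘ Spec (CommRingCat.of A))) b = 0 := by
  rw [← toQuot_specQuot I (X ↘ Spec (CommRingCat.of A)) 𝓚 h𝓚 k]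
  exact GrSysLib.toGlobal_eq_zero
    (thick I (toSpf I (X ↘ Spec (CommRingCat.of A)) 𝓚 h𝓚) (isProperHom_toSpf I (X ↘ Spec (CommRingCat.of A)) 𝓚 h𝓚)) k hb

theorem isCohF_cmpl (hF : Coh.IsCoh F) [IsLocallyNoetherian X] :
    IsCohF (completionAlong X 𝓚) hX (cmpl hX (completionToX X 𝓚) (completionToX_comm X 𝓚) F) := by
  have : SheafOfModules.IsFinitePresentation (R := ModSite.ringSh X.sheaf) F := QCohLib.isFP_of_isCoh F hF
  exact isFP_pull (completionToX X 𝓚 0).base (schSharp (completionAlong X 𝓚) hX (completionToX X 𝓚) (completionToX_comm X 𝓚)) F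

omit [IsNoetherianRing A] in
theorem square_of_epi {C : Type*} [Category* C] {F₀ Q Q' R R' : C} {π : F₀ ⟶ Q} [hπ : Epi π] {π' : F₀ ⟶ Q'}
    {T : Q ⟶ Q'} (α : Q ≅ R) (α' : Q' ≅ R') {η : F₀ ⟶ R} {η' : F₀ ⟶ R'} {t : R ⟶ R'}
    (h₁ : π ≫ α.hom = η) (h₂ : π' ≫ α'.hom = η') (h₃ : π ≫ T = π') (h₄ : η ≫ t = η') :
    α.inv ≫ T = t ≫ α'.inv := by
  rw [Iso.inv_comp_eq, ← cancel_epi π, h₃, reassoc_of% h₁, reassoc_of% h₄, ← h₂, Category.assoc, Iso.hom_inv_id,
    Category.comp_id]

include h𝓚 in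
/-- **Cohomology of the completion is the limit of the cohomology of the reductions.** -/
theorem nonempty_addEquiv_hF_hhlim (hF : Coh.IsCoh F) (n : ℕ) :
    Nonempty (FSch.HF (completionAlong X 𝓚) hX (cmpl hX (completionToX X 𝓚) (completionToX_comm X 𝓚) F) n ≃+
      Formal.HHlim I F n) := by
  have : IsLocallyNoetherian X := LocallyOfFiniteType.isLocallyNoetherian (X ↘ Spec (CommRingCat.of A))
  have : Coh.IsQCoh F := hF.1
  have hloc : (completionAlong X 𝓚).IsLocNoethFormal :=
    ⟨hX, FComplLib.completionAlong_isAdic X 𝓚, (FComplLib.completionAlong_isLocNoethFormal X 𝓚).2.2⟩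
  let h := hloc.1
  let p := completionToX X 𝓚
  let hp := completionToX_comm X 𝓚
  let M := cmpl h p hp F
  have hcoh : IsCohF _ h M := isCohF_cmpl X 𝓚 h F hF
  haveI : ∀ k, IsClosedImmersion (p k) := fun k => FComplLib.isClosedImmersion_completionToX X 𝓚 k
  choose α hα using fun k => exists_modPow_iso h p hp F I (toGlobal_zero I X 𝓚 h𝓚) (ker_le_rho I X 𝓚 h𝓚) k
  let S := SheafOfModules.toSheaf X.ringCatSheaf
  let Gk : ℕ → ModF (completionAlong X 𝓚) h := fun k =>
    (levelMor (completionAlong X 𝓚) h k).push.obj (lev h (cmpl h p hp F) k)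
  let E : ∀ k, FSch.HF _ h (Gk k) n →+ Formal.HHmodPow I F n k := fun k =>
    (Sheaf.H.map (S.map (α k).inv) n).comp (hPushF h p hp (Gk k) n)
  have hinj : ∀ k, Function.Bijective (E k) := fun k => by
    have hinv : ∀ {P Q : X.Modules} (e : P ≅ Q) (z : Sheaf.H (S.obj P) n),
        Sheaf.H.map (S.map e.inv) n (Sheaf.H.map (S.map e.hom) n z) = z := fun {P Q} e z => by
      refine (Sheaf.H.map_comp_apply (S.map e.hom) (S.map e.inv) z).symm.trans ?_
      refine (congrArg (fun φ => Sheaf.H.map φ n z) (((S.map_comp _ _).symm.trans (congrArg S.map e.hom_inv_id)).trans (S.map_id P))).trans ?_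
      exact Sheaf.H.map_id_apply z
    have hb : Function.Bijective (Sheaf.H.map (S.map (α k).inv) n) :=
      Function.bijective_iff_has_inverse.mpr ⟨Sheaf.H.map (S.map (α k).hom) n, fun z => hinv (α k).symm z, hinv (α k)⟩
    exact hb.comp (hPushF_bijective h p hp (Gk k) n)
  have hE : ∀ k z, Formal.HHmodPowTrans I F n k (E (k + 1) z) = E k (Sheaf.H.map (towT hloc M k) n z) := by
    intro k z
    have ha : (α (k + 1)).inv ≫ Formal.modPowTrans I (k + 1) F =
        (toSchemeMor (completionAlong X 𝓚) h p hp).push.map (levelTrans _ h (cmpl h p hp F) k) ≫ (α k).inv :=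
      square_of_epi (hπ := epi_modPowπ F I (k + 1 + 1)) (α (k + 1)) (α k) (hα (k + 1)) (hα k)
        (Formal.modPowπ_trans I (k + 1) F) (eta_levelTrans h p hp F k)
    refine Eq.trans ?_ (congrArg (Sheaf.H.map (S.map (α k).inv) n)
      (hPushF_natural h p hp (levelTrans (completionAlong X 𝓚) h (cmpl h p hp F) k) n z)).symm
    refine (Sheaf.H.map_comp_apply (S.map (α (k + 1)).inv) (S.map (Formal.modPowTrans I (k + 1) F)) _).symm.trans ?_
    refine Eq.trans ?_ (Sheaf.H.map_comp_apply _ _ _)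
    exact congrArg (fun φ => Sheaf.H.map φ n (hPushF h p hp (Gk (k + 1)) n z))
      ((S.map_comp _ _).symm.trans ((congrArg S.map ha).trans (S.map_comp _ _)))
  obtain ⟨b1, b2⟩ := hF_bijective hloc I (toSpf I (X ↘ Spec (CommRingCat.of A)) 𝓚 h𝓚)
    (isProperHom_toSpf I (X ↘ Spec (CommRingCat.of A)) 𝓚 h𝓚) M hcoh n
  have hT : ∀ k z, Sheaf.H.map (towT hloc M k) n (Sheaf.H.map (towP hloc M (k + 1)) n z) = Sheaf.H.map (towP hloc M k) n z :=
    fun k z => (Sheaf.H.map_comp_apply _ _ z).symm.trans (congrArg (fun φ => Sheaf.H.map φ n z) (towP_towT hloc M k))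
  let Φ : FSch.HF _ h M n →+ Formal.HHlim I F n :=
    { toFun := fun x => ⟨fun k => E k (Sheaf.H.map (towP hloc M k) n x), fun k => (hE k _).trans (congrArg (E k) (hT k x))⟩
      map_zero' := Subtype.ext (funext fun k => by simp)
      map_add' := fun x y => Subtype.ext (funext fun k => by simp) }
  refine ⟨AddEquiv.ofBijective Φ ⟨(injective_iff_map_eq_zero Φ).2 fun x hx => b1 x fun k => (hinj k).1 ?_, fun y => ?_⟩⟩
  · exact (congrFun (congrArg Subtype.val hx) k).trans (map_zero (E k)).symm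
  · choose z hz using fun k => (hinj k).2 (y.1 k)
    obtain ⟨x, hx⟩ := b2 z fun k => (hinj k).1 ((hE k _).symm.trans ((congrArg _ (hz (k + 1))).trans ((y.2 k).trans (hz k).symm)))
    exact ⟨x, Subtype.ext (funext fun k => (congrArg (E k) (hx k)).trans (hz k))⟩

end FModLib

end
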