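import Groth.Agent.FModLib.MLSys
import Groth.Prelude.Def_ARSys

/-!
# The Mittag-Leffler property of the cohomology of an adic system of coherent modules
-/

set_option autoImplicit false
set_option maxHeartbeats 200000

universe u

open CategoryTheory CategoryTheory.Limits AlgebraicGeometry Opposite TopologicalSpace

noncomputable section

namespace FModLib

open GrSysLib

variable {A : Type u} [CommRing A] {J : Ideal A} {T : Thick A J} (R : Real T)
  (F : ∀ k, (T.X k).Modules) (ψ : ∀ k, (Scheme.Modules.pullback (T.i k)).obj (F (k + 1)) ≅ F k)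
  [∀ k, Coh.IsQCoh (F k)] (q : ℕ)

/-- The cohomology of a level, on the common space. -/
abbrev HR (k : ℕ) : Type u := Sheaf.H ((R.Φ k).obj (F k)) q

theorem hm_comp {P Q W : AbZ T} (φ : P ⟶ Q) (χ : Q ⟶ W) (x : Sheaf.H P q) :
    Sheaf.H.map χ q (Sheaf.H.map φ q x) = Sheaf.H.map (φ ≫ χ) q x :=
  (Sheaf.H.map_comp_apply φ χ x).symm

theorem hm_zero {P Q : AbZ T} (x : Sheaf.H P q) : Sheaf.H.map (0 : P ⟶ Q) q x = 0 :=
  (congrArg (fun e => Abelian.Ext.comp x e (add_zero q)) (Abelian.Ext.mk₀_zero _ _)).trans (Abelian.Ext.comp_zero ..)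

/-- The composite transition maps down to level `k`. -/
def down (k : ℕ) : ∀ L, (R.Φ (k + L)).obj (F (k + L)) ⟶ (R.Φ k).obj (F k)
  | 0 => 𝟙 _
  | L + 1 => dd R F ψ (k + L) ≫ down k L

theorem down_smul (k L : ℕ) (b : A) :
    (R.Φ (k + L)).map (Formal.smulMod A (F (k + L)) b) ≫ down R F ψ k L =
      down R F ψ k L ≫ (R.Φ k).map (Formal.smulMod A (F k) b) := by
  induction L with
  | zero => exact (Category.comp_id _).trans (Category.id_comp _).symm
  | succ L ih =>
    exact ((Category.assoc _ _ _).symm.trans ((congrArg (fun e => e ≫ down R F ψ k L) (dd_smul R F ψ (k + L) b)).trans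
      ((Category.assoc _ _ _).trans ((congrArg (fun e => dd R F ψ (k + L) ≫ e) ih).trans
        (Category.assoc _ _ _).symm))))

theorem tau_down (k L : ℕ) (b : A) (hb : b ∈ J) :
    tau R F ψ (k + L) b hb ≫ down R F ψ k (L + 1) = down R F ψ k L ≫ (R.Φ k).map (Formal.smulMod A (F k) b) := by
  show _ ≫ dd R F ψ (k + L) ≫ down R F ψ k L = _
  rw [← Category.assoc, tau_dd]
  exact down_smul R F ψ k L b

/-- `J^L` times the cohomology of level `k`. -/
def sPow (k L : ℕ) : AddSubgroup (HR R F q k) :=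
  AddSubgroup.closure {y | ∃ b ∈ J ^ L, ∃ w, Sheaf.H.map ((R.Φ k).map (Formal.smulMod A (F k) b)) q w = y}

omit [∀ k, Coh.IsQCoh (F k)] in
theorem mem_sPow_zero (k : ℕ) (x : HR R F q k) : x ∈ sPow R F q k 0 := by
  refine AddSubgroup.subset_closure ⟨1, by rw [pow_zero, Ideal.one_eq_top]; trivial, x, ?_⟩
  have h : Formal.smulMod A (F k) (1 : A) = 𝟙 _ :=
    Scheme.Modules.hom_ext _ _ fun U => ConcreteCategory.hom_ext _ _ fun s =>
      (FormalLib.smulMod_app (F k) (1 : A) U s).trans (one_smul A (show FormalLib.Sec A (F k) U from s))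
  rw [h, CategoryTheory.Functor.map_id, Sheaf.H.map_id_apply]

omit [∀ k, Coh.IsQCoh (F k)] in
theorem smul_mem_sPow (k L : ℕ) {b : A} (hb : b ∈ J) {x : HR R F q k} (hx : x ∈ sPow R F q k L) :
    Sheaf.H.map ((R.Φ k).map (Formal.smulMod A (F k) b)) q x ∈ sPow R F q k (L + 1) := by
  refine AddSubgroup.closure_induction (p := fun z _ =>
    Sheaf.H.map ((R.Φ k).map (Formal.smulMod A (F k) b)) q z ∈ sPow R F q k (L + 1)) ?_ ?_ ?_ ?_ hx
  · rintro _ ⟨c, hc, w, rfl⟩
    refine AddSubgroup.subset_closure ⟨b * c, by rw [pow_succ']; exact Ideal.mul_mem_mul hb hc, w, ?_⟩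
    rw [hm_comp q, FormalLib.smulMod_mul, Functor.map_comp]
  · rw [map_zero]; exact zero_mem _
  · intro y z _ _ hy hz; rw [map_add]; exact add_mem hy hz
  · intro y _ hy; rw [map_neg]; exact neg_mem hy

omit [∀ k, Coh.IsQCoh (F k)] in
theorem eq_zero_of_mem_sPow (k : ℕ) {x : HR R F q k} (hx : x ∈ sPow R F q k (k + 1)) : x = 0 := by
  refine AddSubgroup.closure_induction (p := fun z _ => z = 0) ?_ rfl ?_ ?_ hx
  · rintro _ ⟨b, hb, w, rfl⟩
    rw [smulMod_eq_zero (J ^ (k + 1)) (fun c hc => toGlobal_eq_zero T k hc) _ hb, Functor.map_zero, hm_zero]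
  · intro y z _ _ hy hz; rw [hy, hz, add_zero]
  · intro y _ hy; rw [hy, neg_zero]

variable {r : ℕ} (a : Fin r → A) (ha : ∀ i, a i ∈ J) [IsNoetherianRing A] (hF : Coh.IsCoh (F 0))
  (hspan : Ideal.span (Set.range a) = J)

/-- Cohomology of the kernel of step `k`. -/
abbrev HK (k : ℕ) : Type u := Coh.HH (T.X 0) (kerObj T F ψ a ha (k + 1)) (q + 1)

/-- To the common space. -/
def toZ (k : ℕ) : HK F ψ q a ha k →+ Sheaf.H ((R.Φ 0).obj (kerObj T F ψ a ha (k + 1))) (q + 1) :=
  Sheaf.H.map (R.β.inv.app (kerObj T F ψ a ha (k + 1))) (q + 1)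

/-- The connecting map of step `k`. -/
def dlt (k : ℕ) : HR R F q k →+ HK F ψ q a ha k :=
  (show Sheaf.H ((R.Φ 0).obj (kerObj T F ψ a ha (k + 1))) (q + 1) →+ HK F ψ q a ha k from
      Sheaf.H.map (R.β.hom.app (kerObj T F ψ a ha (k + 1))) (q + 1)).comp
    (AtlasCoh.hδ (stepSeq_shortExact R F ψ a ha hF hspan k) q)

theorem toZ_dlt (k : ℕ) (y : HR R F q k) :
    toZ R F ψ q a ha k (dlt R F ψ q a ha hF hspan k y) =
      AtlasCoh.hδ (stepSeq_shortExact R F ψ a ha hF hspan k) q y := by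
  refine (hm_comp (q + 1) _ _ _).trans ?_
  rw [Iso.hom_inv_id_app]
  exact Sheaf.H.map_id_apply _

theorem delta_tau (i : Fin r) (k : ℕ) (y : HR R F q k) :
    AtlasCoh.hδ (stepSeq_shortExact R F ψ a ha hF hspan (k + 1)) q
        (Sheaf.H.map (tau R F ψ k (a i) (ha i)) q y) =
      Sheaf.H.map ((R.Φ 0).map (tK T F ψ a ha hF i (k + 1))) (q + 1)
        (AtlasCoh.hδ (stepSeq_shortExact R F ψ a ha hF hspan k) q y) :=
  FormalProLib.hδ_natural' (stepSeq_shortExact R F ψ a ha hF hspan k)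
    (stepSeq_shortExact R F ψ a ha hF hspan (k + 1)) (stepMap R F ψ a ha hF hspan i k) q y

theorem dlt_apply (k : ℕ) (y : HR R F q k) : dlt R F ψ q a ha hF hspan k y =
    Sheaf.H.map (R.β.hom.app (kerObj T F ψ a ha (k + 1))) (q + 1)
      (AtlasCoh.hδ (stepSeq_shortExact R F ψ a ha hF hspan k) q y) := rfl

theorem dlt_tau (i : Fin r) (k : ℕ) (y : HR R F q k) :
    dlt R F ψ q a ha hF hspan (k + 1) (Sheaf.H.map (tau R F ψ k (a i) (ha i)) q y) =
      FormalLib.hMapA (A := A) (tK T F ψ a ha hF i (k + 1)) (q + 1) (dlt R F ψ q a ha hF hspan k y) := by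
  rw [dlt_apply, dlt_apply, delta_tau, FormalLib.hMapA_apply, hm_comp (q + 1), hm_comp (q + 1)]
  exact congrArg (fun e => Sheaf.H.map e (q + 1) (AtlasCoh.hδ (stepSeq_shortExact R F ψ a ha hF hspan k) q y))
    (R.β.hom.naturality (tK T F ψ a ha hF i (k + 1)))

/-- The kernel map on cohomology. -/
def gD (k : ℕ) : HK F ψ q a ha k →+ Sheaf.H ((R.Φ (k + 1)).obj (F (k + 1))) (q + 1) :=
  (Sheaf.H.map (nuZ R F ψ a ha hF hspan k) (q + 1)).comp (toZ R F ψ q a ha k)

theorem gD_apply (k : ℕ) (x : HK F ψ q a ha k) : gD R F ψ q a ha hF hspan k x =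
    Sheaf.H.map (R.β.inv.app (kerObj T F ψ a ha (k + 1)) ≫ nuZ R F ψ a ha hF hspan k) (q + 1) x :=
  hm_comp (q + 1) _ _ x

theorem key_smul (k : ℕ) (b : A) :
    (QCohLib.toAbF (T.X 0)).map (Formal.smulMod A (kerObj T F ψ a ha (k + 1)) b) ≫
        (R.β.inv.app (kerObj T F ψ a ha (k + 1)) ≫ nuZ R F ψ a ha hF hspan k) =
      (R.β.inv.app (kerObj T F ψ a ha (k + 1)) ≫ nuZ R F ψ a ha hF hspan k) ≫
        (R.Φ (k + 1)).map (Formal.smulMod A (F (k + 1)) b) := by
  rw [← Category.assoc, R.β.inv.naturality, Category.assoc, Category.assoc]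
  refine congrArg (fun e => R.β.inv.app _ ≫ e) ?_
  rw [nuZ, Category.assoc, ← Functor.map_comp, ← FormalProLib.smulMod_natural, Functor.map_comp,
    ← push_smulMod (toLvl T (k + 1)) (comp_over T _ _ (sq_toLvl T (k + 1))), ← Category.assoc, ← Category.assoc]
  exact congrArg (fun e => e ≫ _) ((lv R (k + 1)).inv.naturality _)

theorem gD_smul (k : ℕ) (b : A) (x : HK F ψ q a ha k) :
    gD R F ψ q a ha hF hspan k (b • x) = Sheaf.H.map ((R.Φ (k + 1)).map (Formal.smulMod A (F (k + 1)) b)) (q + 1)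
      (gD R F ψ q a ha hF hspan k x) := by
  have h : b • x = FormalLib.hMapA (A := A) (Formal.smulMod A (kerObj T F ψ a ha (k + 1)) b) (q + 1) x := rfl
  rw [gD_apply, gD_apply, h, FormalLib.hMapA_apply]
  refine (hm_comp (q + 1) _ _ x).trans (Eq.trans ?_ (hm_comp (q + 1) _ _ x).symm)
  exact congrArg (fun e => Sheaf.H.map e (q + 1) x) (key_smul R F ψ a ha hF hspan k b)

/-- The classes killed by the kernel map, as a submodule. -/
def imD (k : ℕ) : Submodule A (HK F ψ q a ha k) where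
  carrier := {x | gD R F ψ q a ha hF hspan k x = 0}
  zero_mem' := map_zero _
  add_mem' {x y} hx hy := by
    rw [Set.mem_ofPred_eq] at hx hy ⊢
    rw [map_add, hx, hy, add_zero]
  smul_mem' b x hx := by
    rw [Set.mem_ofPred_eq] at hx ⊢
    rw [gD_smul, hx, map_zero]

theorem mem_imD (k : ℕ) (x : HK F ψ q a ha k) :
    x ∈ imD R F ψ q a ha hF hspan k ↔ ∃ y, dlt R F ψ q a ha hF hspan k y = x := by
  constructor
  · intro hx
    have hx0 : Sheaf.H.map (nuZ R F ψ a ha hF hspan k) (q + 1) (toZ R F ψ q a ha k x) = 0 := hx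
    obtain ⟨y, hy⟩ := AtlasCoh.hExact₁ (stepSeq_shortExact R F ψ a ha hF hspan k) q
      (toZ R F ψ q a ha k x) hx0
    refine ⟨y, ?_⟩
    rw [dlt_apply, show AtlasCoh.hδ (stepSeq_shortExact R F ψ a ha hF hspan k) q y = toZ R F ψ q a ha k x from hy]
    refine (hm_comp (q + 1) _ _ x).trans ?_
    rw [Iso.inv_hom_id_app]
    exact Sheaf.H.map_id_apply _
  · rintro ⟨y, rfl⟩
    show gD R F ψ q a ha hF hspan k _ = 0
    rw [gD, AddMonoidHom.comp_apply, toZ_dlt]
    exact (Abelian.Ext.comp_assoc_of_third_deg_zero ..).trans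
      ((congrArg (fun e => Abelian.Ext.comp y e (add_zero (q + 1)))
        (stepSeq_shortExact R F ψ a ha hF hspan k).extClass_comp).trans (Abelian.Ext.comp_zero ..))

include a ha hF hspan in
/-- **The images in a given level stabilise.** -/
theorem exists_stable (k : ℕ) : ∃ e, ∀ L, e ≤ L → ∀ y : HR R F q (k + L),
    ∃ y' : HR R F q (k + (L + 1)), Sheaf.H.map (down R F ψ k (L + 1)) q y' = Sheaf.H.map (down R F ψ k L) q y := by
  let S := thickSys T F ψ a ha hF
  let t : Fin r → ∀ m, HK F ψ q a ha m →ₗ[A] HK F ψ q a ha (m + 1) := fun i m => tH A S (q + 1) i (m + 1)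
  obtain ⟨d₁, hd₁⟩ := gen_HH (A := A) r S (isGenCoh_thickSys T F ψ a ha hF) (q + 1)
  have hgen : GenOps t := ⟨d₁, fun m hm x => hd₁ (m + 1) (by omega) x⟩
  have hcomm : CommOps t := fun i j m x => commOps_tH S (q + 1) i j (m + 1) x
  have : ∀ m, Module.Finite A (HK F ψ q a ha m) := fun m =>
    FormalLib.finite_HH _ (isCoh_kerObj T F ψ a ha hF (m + 1)) (q + 1)
  obtain ⟨d, hd⟩ := exists_sub_gen hcomm hgen (imD R F ψ q a ha hF hspan) (by
    intro i m x hx
    obtain ⟨y, rfl⟩ := (mem_imD R F ψ q a ha hF hspan m x).1 hx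
    exact (mem_imD R F ψ q a ha hF hspan (m + 1) _).2 ⟨_, dlt_tau R F ψ q a ha hF hspan i m y⟩)
  have claim : ∀ L M, d ≤ k + M → ∀ y : HR R F q (k + (M + L)),
      ∃ z, dlt R F ψ q a ha hF hspan (k + (M + L)) z = dlt R F ψ q a ha hF hspan (k + (M + L)) y ∧
        Sheaf.H.map (down R F ψ k (M + L)) q z ∈ sPow R F q k L := by
    intro L
    induction L with
    | zero => exact fun M _ y => ⟨y, rfl, mem_sPow_zero R F q k _⟩
    | succ L ih =>
      intro M hM y
      obtain ⟨w, hw, hwy⟩ := (Submodule.mem_iSup_iff_exists_finsupp _ _).1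
        (hd (k + (M + L)) (by omega) ((mem_imD R F ψ q a ha hF hspan (k + (M + L) + 1) _).2 ⟨y, rfl⟩))
      choose u hu hu' using fun i => Submodule.mem_map.1 (hw i)
      choose yi hyi using fun i => (mem_imD R F ψ q a ha hF hspan _ _).1 (hu i)
      choose zi hzi hzi' using fun i => ih M hM (yi i)
      refine ⟨∑ i, Sheaf.H.map (tau R F ψ (k + (M + L)) (a i) (ha i)) q (zi i), ?_, ?_⟩
      · show dlt R F ψ q a ha hF hspan (k + (M + L) + 1) _ = dlt R F ψ q a ha hF hspan (k + (M + L) + 1) y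
        rw [map_sum]
        refine Eq.trans ?_ hwy
        rw [Finsupp.sum_fintype _ _ (fun _ => rfl)]
        refine Finset.sum_congr rfl fun i _ => ?_
        rw [dlt_tau, hzi, hyi]
        exact hu' i
      · show Sheaf.H.map (down R F ψ k (M + L + 1)) q _ ∈ _
        rw [map_sum]
        refine AddSubgroup.sum_mem _ fun i _ => ?_
        have e : Sheaf.H.map (down R F ψ k (M + L + 1)) q
            (Sheaf.H.map (tau R F ψ (k + (M + L)) (a i) (ha i)) q (zi i)) =
            Sheaf.H.map ((R.Φ k).map (Formal.smulMod A (F k) (a i))) q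
              (Sheaf.H.map (down R F ψ k (M + L)) q (zi i)) :=
          (hm_comp q (tau R F ψ (k + (M + L)) (a i) (ha i)) (down R F ψ k (M + L + 1)) (zi i)).trans
            ((congrArg (fun e => Sheaf.H.map e q (zi i)) (tau_down R F ψ k (M + L) (a i) (ha i))).trans
              (hm_comp q (down R F ψ k (M + L)) ((R.Φ k).map (Formal.smulMod A (F k) (a i))) (zi i)).symm)
        exact e.symm ▸ smul_mem_sPow R F q k L (ha i) (hzi' i)
  refine ⟨d + (k + 1), fun L hL y => ?_⟩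
  obtain ⟨M, rfl⟩ : ∃ M, L = M + (k + 1) := ⟨L - (k + 1), by omega⟩
  obtain ⟨z, hz, hz'⟩ := claim (k + 1) M (by omega) y
  obtain ⟨y', hy'⟩ := AtlasCoh.hExact₃ (stepSeq_shortExact R F ψ a ha hF hspan (k + (M + (k + 1)))) q (y - z) (by
    have h : dlt R F ψ q a ha hF hspan (k + (M + (k + 1))) (y - z) = 0 := by rw [map_sub, hz, sub_self]
    exact (toZ_dlt R F ψ q a ha hF hspan _ _).symm.trans ((congrArg _ h).trans (map_zero _)))
  have hd2 : Sheaf.H.map (down R F ψ k (M + (k + 1))) q (y - z) =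
      Sheaf.H.map (down R F ψ k (M + (k + 1))) q y := by
    rw [map_sub, eq_zero_of_mem_sPow R F q k hz', sub_zero]
  refine ⟨y', (hm_comp q _ _ y').symm.trans ?_⟩
  exact (congrArg (fun v => Sheaf.H.map (down R F ψ k (M + (k + 1))) q v) hy').trans hd2

end FModLib

end
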