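import Groth.Agent.FModLib.ThickStep
import Groth.Agent.GrSysLib.Coh
import Groth.Agent.FormalProLib.Pro

/-!
# The short exact sequences of an adic system of modules, transported to the common space
-/

set_option autoImplicit false
set_option maxHeartbeats 800000

universe u

open CategoryTheory CategoryTheory.Limits AlgebraicGeometry Opposite TopologicalSpace

noncomputable section

namespace FModLib

open GrSysLib

variable {A : Type u} [CommRing A] {J : Ideal A} (T : Thick A J)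

/-- Sheaves of abelian groups on the common space. -/
abbrev AbZ : Type (u + 1) := QCohLib.AbSh (T.X 0).toTopCat

/-- A coherent choice of functors to the common space. -/
structure Real where
  Φ : ∀ k, (T.X k).Modules ⥤ AbZ T
  additive : ∀ k, (Φ k).Additive
  exact : ∀ k (S : ShortComplex (T.X k).Modules) (_ : S.ShortExact),
    (S.map (Φ k)).ShortExact
  c : ∀ k, Pf (T.i k) ⋙ Φ (k + 1) ≅ Φ k
  β : Φ 0 ≅ QCohLib.toAbF (T.X 0)

variable {T} (R : Real T)

instance (k : ℕ) : (R.Φ k).Additive := R.additive k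

/-- Everything is seen at level zero. -/
def lv : ∀ k, Pf (toLvl T k) ⋙ R.Φ k ≅ R.Φ 0
  | 0 => Functor.isoWhiskerRight (Scheme.Modules.pushforwardId (T.X 0)) (R.Φ 0) ≪≫ Functor.leftUnitor _
  | k + 1 => Functor.isoWhiskerRight (Scheme.Modules.pushforwardComp (toLvl T k) (T.i k)).symm (R.Φ (k + 1)) ≪≫
      Functor.associator _ _ _ ≪≫ Functor.isoWhiskerLeft (Pf (toLvl T k)) (R.c k) ≪≫ lv k

theorem lv_succ_inv (k : ℕ) (G : (T.X 0).Modules) :
    (lv R (k + 1)).inv.app G = (lv R k).inv.app G ≫ (R.c k).inv.app ((Pf (toLvl T k)).obj G) ≫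
      (R.Φ (k + 1)).map (cIso T k G).hom := by
  simp [lv, cIso]
  rfl

theorem epi_map {k : ℕ} {M N : (T.X k).Modules} (φ : M ⟶ N) [Epi φ] : Epi ((R.Φ k).map φ) := by
  have h : (ShortComplex.mk (kernel.ι φ) φ (kernel.condition φ)).ShortExact :=
    { exact := ShortComplex.exact_of_f_is_kernel _ (kernelIsKernel φ) }
  exact (R.exact k _ h).epi_g

variable (F : ∀ k, (T.X k).Modules) (ψ : ∀ k, (Scheme.Modules.pullback (T.i k)).obj (F (k + 1)) ≅ F k)

/-- The transition maps on the common space. -/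
def dd (k : ℕ) : (R.Φ (k + 1)).obj (F (k + 1)) ⟶ (R.Φ k).obj (F k) :=
  (R.Φ (k + 1)).map (res' T F ψ k) ≫ (R.c k).hom.app (F k)

variable [∀ k, Coh.IsQCoh (F k)]

/-- Multiplication by an element of `J`, raising the level. -/
def tau (k : ℕ) (a : A) (ha : a ∈ J) : (R.Φ k).obj (F k) ⟶ (R.Φ (k + 1)).obj (F (k + 1)) :=
  (R.c k).inv.app (F k) ≫ (R.Φ (k + 1)).map (tauT T F ψ k a ha)

theorem dd_tau (k : ℕ) (a : A) (ha : a ∈ J) :
    dd R F ψ k ≫ tau R F ψ k a ha = (R.Φ (k + 1)).map (Formal.smulMod A (F (k + 1)) a) := by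
  rw [← res'_tauT T F ψ k a ha, Functor.map_comp]
  simp only [dd, tau, Category.assoc, Iso.hom_inv_id_app_assoc]

theorem tauT_res' (k : ℕ) (a : A) (ha : a ∈ J) :
    tauT T F ψ k a ha ≫ res' T F ψ k = (Pf (T.i k)).map (Formal.smulMod A (F k) a) := by
  have := epi_res' T F ψ k
  refine (cancel_epi (res' T F ψ k)).1 ?_
  rw [← Category.assoc, res'_tauT, FormalProLib.smulMod_natural, push_smulMod (T.i k) (comp_over T _ _ (sq_i T k))]

theorem tau_dd (k : ℕ) (a : A) (ha : a ∈ J) :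
    tau R F ψ k a ha ≫ dd R F ψ k = (R.Φ k).map (Formal.smulMod A (F k) a) := by
  simp only [dd, tau, Category.assoc]
  rw [← Functor.map_comp_assoc, tauT_res']
  exact ((congrArg (fun q => (R.c k).inv.app (F k) ≫ q) ((R.c k).hom.naturality (Formal.smulMod A (F k) a))).trans
    ((Category.assoc _ _ _).symm.trans ((congrArg (fun q => q ≫ _) ((R.c k).inv_hom_id_app (F k))).trans
      (Category.id_comp _))))

theorem dd_smul (k : ℕ) (a : A) :
    (R.Φ (k + 1)).map (Formal.smulMod A (F (k + 1)) a) ≫ dd R F ψ k =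
      dd R F ψ k ≫ (R.Φ k).map (Formal.smulMod A (F k) a) := by
  simp only [dd, Category.assoc]
  rw [← Functor.map_comp_assoc, FormalProLib.smulMod_natural,
    ← push_smulMod (T.i k) (comp_over T _ _ (sq_i T k)), Functor.map_comp, Category.assoc]
  exact congrArg (fun q => (R.Φ (k + 1)).map (res' T F ψ k) ≫ q)
    ((R.c k).hom.naturality (Formal.smulMod A (F k) a))

variable {r : ℕ} (a : Fin r → A) (ha : ∀ i, a i ∈ J)

/-- All multiplications, from level zero. -/
def muZ (k : ℕ) : (R.Φ 0).obj (word T F r k) ⟶ (R.Φ k).obj (F k) :=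
  (lv R k).inv.app (word T F r k) ≫ (R.Φ k).map (mulAll T F ψ a ha k)

theorem muZ_tau (i : Fin r) (k : ℕ) :
    muZ R F ψ a ha k ≫ tau R F ψ k (a i) (ha i) = (R.Φ 0).map (tW T F i k) ≫ muZ R F ψ a ha (k + 1) := by
  have hn : (R.Φ 0).map (tW T F i k) ≫ (lv R (k + 1)).inv.app (word T F r (k + 1)) =
      (lv R (k + 1)).inv.app (word T F r k) ≫ (R.Φ (k + 1)).map ((Pf (toLvl T (k + 1))).map (tW T F i k)) :=
    (lv R (k + 1)).inv.naturality (tW T F i k)
  rw [muZ, muZ, ← Category.assoc ((R.Φ 0).map _), hn]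
  simp only [Category.assoc]
  rw [← Functor.map_comp (R.Φ (k + 1)), tW_mulAll, lv_succ_inv]
  simp only [Category.assoc, tau, Functor.map_comp]
  refine congrArg (fun q => (lv R k).inv.app (word T F r k) ≫ q) ?_
  rw [← Functor.map_comp_assoc (R.Φ (k + 1)) (cIso T k (word T F r k)).hom, Iso.hom_inv_id,
    CategoryTheory.Functor.map_id, Category.id_comp]
  exact ((Category.assoc _ _ _).symm.trans ((congrArg (fun q => q ≫ _)
    ((R.c k).inv.naturality (mulAll T F ψ a ha k))).trans (Category.assoc _ _ _)))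

variable [IsNoetherianRing A] (hF : Coh.IsCoh (F 0)) (hspan : Ideal.span (Set.range a) = J)

/-- The kernel map of the step, from level zero. -/
def nuZ (k : ℕ) : (R.Φ 0).obj (kerObj T F ψ a ha (k + 1)) ⟶ (R.Φ (k + 1)).obj (F (k + 1)) :=
  (lv R (k + 1)).inv.app (kerObj T F ψ a ha (k + 1)) ≫
    (R.Φ (k + 1)).map (exists_step_mulAll T F ψ a ha hF hspan k).choose

theorem kerπ_nuZ (k : ℕ) :
    (R.Φ 0).map (kerπ T F ψ a ha (k + 1)) ≫ nuZ R F ψ a ha hF hspan k = muZ R F ψ a ha (k + 1) := by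
  have hn : (R.Φ 0).map (kerπ T F ψ a ha (k + 1)) ≫ (lv R (k + 1)).inv.app (kerObj T F ψ a ha (k + 1)) =
      (lv R (k + 1)).inv.app (word T F r (k + 1)) ≫
        (R.Φ (k + 1)).map ((Pf (toLvl T (k + 1))).map (kerπ T F ψ a ha (k + 1))) :=
    (lv R (k + 1)).inv.naturality (kerπ T F ψ a ha (k + 1))
  rw [nuZ, muZ, ← Category.assoc, hn, Category.assoc, ← Functor.map_comp,
    (exists_step_mulAll T F ψ a ha hF hspan k).choose_spec.choose_spec.2]

theorem nuZ_dd (k : ℕ) : nuZ R F ψ a ha hF hspan k ≫ dd R F ψ k = 0 := by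
  rw [nuZ, dd, Category.assoc, ← Functor.map_comp_assoc,
    (exists_step_mulAll T F ψ a ha hF hspan k).choose_spec.choose, Functor.map_zero, zero_comp, comp_zero]

/-- The sequence of the step `k`. -/
def stepSeq (k : ℕ) : ShortComplex (AbZ T) :=
  ShortComplex.mk (nuZ R F ψ a ha hF hspan k) (dd R F ψ k) (nuZ_dd R F ψ a ha hF hspan k)

theorem stepSeq_shortExact (k : ℕ) : (stepSeq R F ψ a ha hF hspan k).ShortExact := by
  refine ShortComplex.shortExact_of_iso ?_
    (R.exact (k + 1) _ (exists_step_mulAll T F ψ a ha hF hspan k).choose_spec.choose_spec.1)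
  exact ShortComplex.isoMk ((lv R (k + 1)).app _) (Iso.refl _) ((R.c k).app _)
    (by
      show (lv R (k + 1)).hom.app _ ≫ (lv R (k + 1)).inv.app _ ≫ _ = _ ≫ 𝟙 _
      exact ((Category.assoc _ _ _).symm.trans ((congrArg (fun q => q ≫ _) ((lv R (k + 1)).hom_inv_id_app _)).trans
        (Category.id_comp _))).trans (Category.comp_id _).symm)
    (Category.id_comp _)

theorem nuZ_tau (i : Fin r) (k : ℕ) :
    (R.Φ 0).map (tK T F ψ a ha hF i (k + 1)) ≫ nuZ R F ψ a ha hF hspan (k + 1) =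
      nuZ R F ψ a ha hF hspan k ≫ tau R F ψ (k + 1) (a i) (ha i) := by
  have := epi_kerπ T F ψ a ha (k + 1)
  have := epi_map R (kerπ T F ψ a ha (k + 1))
  refine (cancel_epi ((R.Φ 0).map (kerπ T F ψ a ha (k + 1)))).1 ?_
  rw [← Category.assoc, ← Functor.map_comp, kerπ_tK, Functor.map_comp, Category.assoc, kerπ_nuZ,
    ← Category.assoc, kerπ_nuZ, muZ_tau]

/-- Multiplication by a generator, as a morphism of consecutive steps. -/
def stepMap (i : Fin r) (k : ℕ) :
    stepSeq R F ψ a ha hF hspan k ⟶ stepSeq R F ψ a ha hF hspan (k + 1) :=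
  ShortComplex.homMk ((R.Φ 0).map (tK T F ψ a ha hF i (k + 1))) (tau R F ψ (k + 1) (a i) (ha i))
    (tau R F ψ k (a i) (ha i)) (nuZ_tau R F ψ a ha hF hspan i k)
    ((tau_dd R F ψ (k + 1) (a i) (ha i)).trans (dd_tau R F ψ k (a i) (ha i)).symm)

end FModLib

end
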