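import Groth.Agent.QCohLib.AbPush

/-!
# Cohomology of products and of limits of towers of sheaves acyclic on a basis
-/

set_option autoImplicit false

universe u

open CategoryTheory CategoryTheory.Limits TopologicalSpace Opposite CategoryTheory.Abelian

noncomputable section

namespace FModLib

open QCohLib (AbSh HU)

variable {X : TopCat.{u}} (B : Set (Opens X))

/-- Positive degree cohomology vanishes on the members of `B`. -/
def AcB (F : AbSh X) : Prop := ∀ V ∈ B, ∀ n, Subsingleton (HU F (n + 1) V)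

theorem acB_quotient {F : AbSh X} (h : AcB B F) : AcB B (QCohLib.injSeq F).X₃ := fun V hV n => by
  have := h V hV (n + 1)
  exact QCohLib.subsingleton_X₃ (QCohLib.injSeq_shortExact F)

theorem acB_of_injective (F : AbSh X) [Injective F] : AcB B F := fun _ _ _ => inferInstance

variable {ι : Type} (G : ι → AbSh X)

theorem pi_section_ext (V : Opens X) {s t : (∏ᶜ G).obj.obj (op V)}
    (h : ∀ i, (Pi.π G i).hom.app (op V) s = (Pi.π G i).hom.app (op V) t) : s = t :=
  Concrete.isLimit_ext _ (isLimitOfPreserves (sheafToPresheaf _ AddCommGrpCat.{u} ⋙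
    (CategoryTheory.evaluation _ AddCommGrpCat.{u}).obj (op V)) (productIsProduct G)) s t fun j => h j.as

theorem exists_pi_section (V : Opens X) (s : ∀ i, (G i).obj.obj (op V)) :
    ∃ t : (∏ᶜ G).obj.obj (op V), ∀ i, (Pi.π G i).hom.app (op V) t = s i := by
  let φ : ∀ i, QCohLib.zsh V ⟶ G i := fun i => QCohLib.zEquiv.symm (s i)
  refine ⟨QCohLib.zEquiv (Pi.lift φ), fun i => ?_⟩
  rw [← QCohLib.zEquiv_comp, Pi.lift_π]
  exact QCohLib.zEquiv.apply_symm_apply _

theorem epi_piMap (hB : Opens.IsBasis B) {H K : ι → AbSh X} (g : ∀ i, H i ⟶ K i)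
    (hs : ∀ i, ∀ V ∈ B, Function.Surjective ((g i).hom.app (op V))) : Epi (Limits.Pi.map g) := by
  refine (Sheaf.isLocallySurjective_iff_epi' (φ := Limits.Pi.map g)).mp
    ((TopCat.Presheaf.isLocallySurjective_iff _).mpr ?_)
  intro U s p hp
  obtain ⟨W, hWB, hpW, hWU⟩ := Opens.isBasis_iff_nbhd.mp hB hp
  choose t ht using fun i => hs i W hWB ((Pi.π K i).hom.app (op W) ((∏ᶜ K).obj.map (homOfLE hWU).op s))
  obtain ⟨x, hx⟩ := exists_pi_section H W t
  refine ⟨W, hWU, ⟨x, pi_section_ext K W fun i => ?_⟩, hpW⟩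
  refine Eq.trans ?_ (ht i)
  rw [← hx i]
  exact congr($(Limits.Pi.map_π g i).hom.app (op W) x)

/-- The product of the injective embeddings. -/
abbrev piSeq : ShortComplex (AbSh X) :=
  ShortComplex.mk (Limits.Pi.map fun i => (QCohLib.injSeq (G i)).f) (Limits.Pi.map fun i => (QCohLib.injSeq (G i)).g)
    (Pi.hom_ext _ _ fun i => by
      rw [Category.assoc, Limits.Pi.map_π, ← Category.assoc, Limits.Pi.map_π, Category.assoc, (QCohLib.injSeq (G i)).zero,
        comp_zero, zero_comp])

theorem piSeq_shortExact (hB : Opens.IsBasis B) (hG : ∀ i, AcB B (G i)) : (piSeq G).ShortExact := by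
  have hm : ∀ i, Mono (QCohLib.injSeq (G i)).f := fun i => (QCohLib.injSeq_shortExact (G i)).mono_f
  have : Mono (piSeq G).f := inferInstanceAs (Mono (Limits.Pi.map fun i => (QCohLib.injSeq (G i)).f))
  refine { exact := ?_, mono_f := this, epi_g := epi_piMap B hB (fun i => (QCohLib.injSeq (G i)).g) fun i V hV s => ?_ }
  · refine ShortComplex.exact_of_f_is_kernel _ (KernelFork.IsLimit.ofι' _ _ fun {W} k hk => ?_)
    have hi : ∀ i, (k ≫ Pi.π _ i) ≫ (QCohLib.injSeq (G i)).g = 0 := fun i => by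
      have e : (piSeq G).g ≫ Pi.π _ i = Pi.π _ i ≫ (QCohLib.injSeq (G i)).g := Limits.Pi.map_π (fun i => (QCohLib.injSeq (G i)).g) i
      rw [Category.assoc, ← e, ← Category.assoc, hk, zero_comp]
    refine ⟨Pi.lift fun i => ((QCohLib.injSeq_shortExact (G i)).exact.lift (k ≫ Pi.π _ i) (hi i)), Pi.hom_ext _ _ fun i => ?_⟩
    show (_ ≫ Limits.Pi.map _) ≫ _ = _
    rw [Category.assoc, Limits.Pi.map_π, ← Category.assoc, Pi.lift_π]
    exact ShortComplex.Exact.lift_f _ _ _
  · have := hG i V hV 0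
    exact QCohLib.exists_lift_of_subsingleton (QCohLib.injSeq_shortExact (G i)) s

/-- A class in a product, componentwise. -/
def toPi (T : AbSh X) (n : ℕ) : Ext T (∏ᶜ G) n →+ ∀ i, Ext T (G i) n :=
  AddMonoidHom.pi fun i => (Ext.mk₀ (Pi.π G i)).postcomp T (add_zero n)

theorem toPi_apply (T : AbSh X) (n : ℕ) (x : Ext T (∏ᶜ G) n) (i : ι) :
    toPi G T n x i = x.comp (Ext.mk₀ (Pi.π G i)) (add_zero n) := rfl

theorem toPi_comp_map {H K : ι → AbSh X} (g : ∀ i, H i ⟶ K i) (T : AbSh X) (n : ℕ) (x : Ext T (∏ᶜ H) n) (i : ι) :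
    toPi K T n (x.comp (Ext.mk₀ (Limits.Pi.map g)) (add_zero n)) i =
      (toPi H T n x i).comp (Ext.mk₀ (g i)) (add_zero n) := by
  rw [toPi_apply, toPi_apply, Ext.comp_assoc_of_third_deg_zero, Ext.comp_assoc_of_third_deg_zero,
    Ext.mk₀_comp_mk₀, Ext.mk₀_comp_mk₀, Limits.Pi.map_π]

/-- The map of sequences of projection `i`. -/
abbrev piProj (i : ι) : piSeq G ⟶ QCohLib.injSeq (G i) :=
  ShortComplex.homMk (Pi.π _ i) (Pi.π _ i) (Pi.π _ i) (Limits.Pi.map_π (fun i => (QCohLib.injSeq (G i)).f) i).symm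
    (Limits.Pi.map_π (fun i => (QCohLib.injSeq (G i)).g) i).symm

theorem toPi_delta (hB : Opens.IsBasis B) (hG : ∀ i, AcB B (G i)) (T : AbSh X) (n : ℕ)
    (y : Ext T (piSeq G).X₃ n) (i : ι) :
    toPi G T (n + 1) (y.comp (piSeq_shortExact B G hB hG).extClass rfl) i =
      (toPi (fun i => (QCohLib.injSeq (G i)).X₃) T n y i).comp (QCohLib.injSeq_shortExact (G i)).extClass rfl := by
  have e := ShortComplex.ShortExact.extClass_naturality (piSeq_shortExact B G hB hG)
    (QCohLib.injSeq_shortExact (G i)) (piProj G i)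
  rw [toPi_apply, toPi_apply, Ext.comp_assoc_of_second_deg_zero]
  refine (Ext.comp_assoc_of_third_deg_zero y _ _ rfl).trans ?_
  simp only [piProj, ShortComplex.homMk_τ₁, ShortComplex.homMk_τ₃] at e
  exact congrArg (fun e => Ext.comp y e rfl) e

/-- **Cohomology commutes with products of sheaves acyclic on a basis.** -/
theorem toPi_bijective (hB : Opens.IsBasis B) (T : AbSh X) : ∀ (n : ℕ) (G : ι → AbSh X), (∀ i, AcB B (G i)) →
    Function.Bijective (toPi G T n) := by
  intro n
  induction n with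
  | zero =>
    intro G _
    refine ⟨(injective_iff_map_eq_zero _).2 fun x hx => ?_, fun y => ?_⟩
    · obtain ⟨φ, rfl⟩ : ∃ φ, x = Ext.mk₀ φ := ⟨Ext.addEquiv₀ x, (Ext.addEquiv₀.symm_apply_apply x).symm⟩
      have : φ = 0 := Pi.hom_ext _ _ fun i => by
        refine Ext.addEquiv₀.symm.injective ?_
        show Ext.mk₀ _ = Ext.mk₀ _
        rw [← Ext.mk₀_comp_mk₀, zero_comp, Ext.mk₀_zero]
        exact congrFun hx i
      rw [this, Ext.mk₀_zero]
    · refine ⟨Ext.mk₀ (Pi.lift fun i => Ext.addEquiv₀ (y i)), funext fun i => ?_⟩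
      rw [toPi_apply, Ext.mk₀_comp_mk₀, Pi.lift_π]
      exact Ext.addEquiv₀.symm_apply_apply (y i)
  | succ n ih =>
    intro G hG
    have hS := piSeq_shortExact B G hB hG
    have hI := ih (fun i => (QCohLib.injSeq (G i)).X₂) fun i => acB_of_injective B _
    have hQ := ih (fun i => (QCohLib.injSeq (G i)).X₃) fun i => acB_quotient B (hG i)
    have : Injective (piSeq G).X₂ := inferInstanceAs (Injective (∏ᶜ fun i => Injective.under (G i)))
    have hδ : ∀ x : Ext T (∏ᶜ G) (n + 1), ∃ y : Ext T (piSeq G).X₃ n, y.comp hS.extClass rfl = x := fun x =>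
      Ext.covariant_sequence_exact₁ _ hS x (Ext.eq_zero_of_injective _) rfl
    refine ⟨(injective_iff_map_eq_zero _).2 fun x hx => ?_, fun y => ?_⟩
    · obtain ⟨y, rfl⟩ := hδ x
      choose z hz using fun i => Ext.covariant_sequence_exact₃ _ (QCohLib.injSeq_shortExact (G i))
        (toPi (fun i => (QCohLib.injSeq (G i)).X₃) T n y i) rfl
        ((toPi_delta B G hB hG T n y i).symm.trans (congrFun hx i))
      obtain ⟨w, hw⟩ := hI.2 z
      have e : w.comp (Ext.mk₀ (piSeq G).g) (add_zero n) = y := hQ.1 <| funext fun i => by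
        refine (toPi_comp_map (fun i => (QCohLib.injSeq (G i)).g) T n w i).trans ?_
        rw [hw]
        exact hz i
      rw [← e, Ext.comp_assoc_of_second_deg_zero, hS.comp_extClass, Ext.comp_zero]
    · choose q hq using fun i => Ext.covariant_sequence_exact₁ _ (QCohLib.injSeq_shortExact (G i)) (y i)
        (Ext.eq_zero_of_injective _) rfl
      obtain ⟨w, hw⟩ := hQ.2 q
      refine ⟨w.comp hS.extClass rfl, funext fun i => ?_⟩
      rw [toPi_delta B G hB hG, hw]
      exact hq i

end FModLib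

end
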