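import Groth.Agent.GrSysLib.ThickSys

/-!
# The step between levels, with its characterising equation
-/

universe u

open CategoryTheory CategoryTheory.Limits AlgebraicGeometry Opposite TopologicalSpace

noncomputable section

namespace FModLib

open GrSysLib

variable {A : Type u} [CommRing A] {J : Ideal A} (T : Thick A J) (F : ∀ k, (T.X k).Modules)
  (ψ : ∀ k, (Scheme.Modules.pullback (T.i k)).obj (F (k + 1)) ≅ F k) [∀ k, Coh.IsQCoh (F k)]
  {r : ℕ} (a : Fin r → A) (ha : ∀ i, a i ∈ J) [IsNoetherianRing A] (hF : Coh.IsCoh (F 0))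

include hF in
/-- **The step from one level to the next.** -/
theorem exists_step_mulAll (hspan : Ideal.span (Set.range a) = J) (k : ℕ) :
    ∃ (ν : (Pf (toLvl T (k + 1))).obj (kerObj T F ψ a ha (k + 1)) ⟶ F (k + 1))
      (h : ν ≫ res' T F ψ k = 0), (ShortComplex.mk ν (res' T F ψ k) h).ShortExact ∧
        (Pf (toLvl T (k + 1))).map (kerπ T F ψ a ha (k + 1)) ≫ ν = mulAll T F ψ a ha (k + 1) := by
  let M := mulAll T F ψ a ha (k + 1)
  let j := toLvl T (k + 1)
  have hS : Coh.IsQCoh (word T F r (k + 1)) := (isCoh_word T F hF (k + 1)).1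
  have hK : Coh.IsQCoh (kerObj T F ψ a ha (k + 1)) := (isCoh_kerObj T F ψ a ha hF (k + 1)).1
  have hq := isQCoh_kerM T F ψ a ha hF (k + 1)
  have hR : Coh.IsQCoh ((Scheme.Modules.pullback j).obj (kernel M)) := KFlatLib.isQCoh_pullback _ _
  have hI : Coh.IsQCoh (Abelian.image (relT T F ψ a ha (k + 1))) := QCohLib.isQCoh_image _
  have := epi_unit_kerM T F ψ a ha hF (k + 1)
  have := epi_kerπ T F ψ a ha (k + 1)
  let S : ShortComplex (T.X 0).Modules := DevissLib.imCokSeq (relT T F ψ a ha (k + 1))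
  have : Coh.IsQCoh S.X₂ := hS
  have : Coh.IsQCoh S.X₃ := hK
  have hSE : (S.map (Pf j)).ShortExact :=
    shortExact_push j (DevissLib.imCokSeq_shortExact (relT T F ψ a ha (k + 1)))
  have h0 : (Pf j).map (Abelian.image.ι (relT T F ψ a ha (k + 1))) ≫ M = 0 := by
    have : Epi ((Pf j).map (Abelian.factorThruImage (relT T F ψ a ha (k + 1)))) := epi_push _ _
    rw [← cancel_epi ((Pf j).map (Abelian.factorThruImage (relT T F ψ a ha (k + 1)))), ← Functor.map_comp_assoc,
      Abelian.image.fac, comp_zero,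
      ← cancel_epi ((Scheme.Modules.pullbackPushforwardAdjunction j).unit.app (kernel M)), ← Category.assoc,
      unit_relT, kernel.condition, comp_zero]
  have := hSE.epi_g
  let ν : (Pf j).obj (kerObj T F ψ a ha (k + 1)) ⟶ F (k + 1) := hSE.exact.desc M h0
  have hν : (Pf j).map (kerπ T F ψ a ha (k + 1)) ≫ ν = M := hSE.exact.g_desc _ _
  have hepi : Epi ((Pf j).map (kerπ T F ψ a ha (k + 1))) := epi_push _ _
  have hμ : ∀ w, muT T F ψ a ha (k + 1) w ≫ res' T F ψ k = 0 := fun w => by
    have := epi_rhoT T F ψ (k + 1)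
    rw [← cancel_epi (rhoT T F ψ (k + 1)), comp_zero, ← Category.assoc, rhoT_muT]
    have hb : ∏ i, a (w i) ∈ J ^ (k + 1) := by
      have := Ideal.prod_mem_prod (s := Finset.univ) (I := fun _ : Fin (k + 1) => J) (x := fun i => a (w i))
        (fun i _ => ha _)
      simpa using this
    rw [← Sigma.ι_desc (fun b : ↥(J ^ (k + 1)) => Formal.smulMod A (F (k + 1)) (b : A)) ⟨_, hb⟩, Category.assoc]
    exact (congrArg (fun φ => _ ≫ φ) (smulFamily_res' T F ψ k)).trans comp_zero
  have hz : ν ≫ res' T F ψ k = 0 := by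
    rw [← cancel_epi ((Pf j).map (kerπ T F ψ a ha (k + 1))), ← Category.assoc, hν, comp_zero]
    refine word_ext T F fun w => ?_
    rw [comp_zero, ← Category.assoc, ι_mulAll, hμ]
  have hmono : Mono ν := Preadditive.mono_of_cancel_zero _ fun {W} w hw => by
    have : Epi (pullback.fst w ((Pf j).map (kerπ T F ψ a ha (k + 1)))) := inferInstance
    refine (cancel_epi (pullback.fst w ((Pf j).map (kerπ T F ψ a ha (k + 1))))).1 ?_
    rw [comp_zero, pullback.condition]
    refine kills T F ψ a ha _ ?_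
    rw [show mulAll T F ψ a ha (k + 1) = _ from hν.symm, ← Category.assoc, ← pullback.condition, Category.assoc, hw,
      comp_zero]
  have := isIso_desc_res' T F ψ k
  have key : ∀ {W : (T.X (k + 1)).Modules} (φ : F (k + 1) ⟶ W), ν ≫ φ = 0 →
      Formal.smulFamily (J ^ (k + 1)) (F (k + 1)) ≫ φ = 0 := fun φ hφ => by
    refine FormalProLib.smulFamily_comp _ ?_
    refine (Ideal.pow_right_mono hspan.ge (k + 1)).trans ?_
    refine le_of_prod_mem a (k + 1) _ fun w => ?_
    show Formal.smulMod A (F (k + 1)) _ ≫ φ = 0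
    rw [← rhoT_muT T F ψ a ha (k + 1) w, ← ι_mulAll, show mulAll T F ψ a ha (k + 1) = _ from hν.symm, Category.assoc, Category.assoc, Category.assoc, hφ,
      comp_zero, comp_zero, comp_zero]
  refine ⟨ν, hz, ?_, hν⟩
  have := epi_res' T F ψ k
  exact { exact := ShortComplex.exact_of_g_is_cokernel _ (CokernelCofork.IsColimit.ofπ' _ _ fun {W} φ hφ =>
            ⟨inv (cokernel.desc _ (res' T F ψ k) (smulFamily_res' T F ψ k)) ≫ cokernel.desc _ φ (key φ hφ), by
              refine Eq.trans (congrArg (fun χ => χ ≫ _)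
                (cokernel.π_desc _ (res' T F ψ k) (smulFamily_res' T F ψ k)).symm) ?_
              rw [Category.assoc, IsIso.hom_inv_id_assoc, cokernel.π_desc]⟩)
          mono_f := hmono
          epi_g := this }

end FModLib

end
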